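import Groth.Agent.Ega4C.LocusFibre
import Groth.Agent.Ega4C.LocusCpl
import Groth.Agent.CalgB.RegHom6
import Groth.Agent.CalgB.GRing2
import Groth.Agent.S0543
import Groth.Agent.S0565
import Groth.Agent.S2622

/-!
# A local G-ring is J-2 (hence quasi-excellent)
-/

set_option autoImplicit false
universe u

namespace K140.LocalJ2

open TensorProduct

/-- The regular locus descends along a faithfully flat regular homomorphism of Noetherian rings. -/
theorem isOpen_regLocus_of_faithfullyFlat (B C : Type u) [CommRing B] [CommRing C] [Algebra B C]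
    [IsNoetherianRing B] [IsNoetherianRing C] [Module.FaithfullyFlat B C]
    (hreg : CAlg.IsRegularHom B C) (h : IsOpen (EGA4.regLocus C)) : IsOpen (EGA4.regLocus B) := by
  apply Groth.Agent.Ega4C.LocusCpl.isOpen_of_isOpen_preimage B C
  convert h using 1
  ext q
  simp only [Set.mem_preimage, EGA4.regLocus, Set.mem_ofPred_eq]
  constructor
  · intro hq
    exact Groth.Agent.Ega4C.LocusFibre.isRegularLocalRing_of_fibLocRing B C q.asIdeal hq
      (Groth.Agent.Ega4C.LocusFibre.fibLocRing_regular_of_isRegularHom B _ hreg q.asIdeal)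
  · intro hq
    have : q.asIdeal.LiesOver (q.asIdeal.comap (algebraMap B C)) := ⟨rfl⟩
    let := Localization.AtPrime.algebraOfLiesOver
      (q.asIdeal.comap (algebraMap B C)) q.asIdeal
    have : IsLocalHom (algebraMap (Localization.AtPrime
        (q.asIdeal.comap (algebraMap B C))) (Localization.AtPrime q.asIdeal)) := by
      rw [RingHom.algebraMap_toAlgebra]
      exact Localization.isLocalHom_localRingHom _ q.asIdeal (algebraMap B C)
        Ideal.LiesOver.over
    exact Groth.Agent.S0565.result
      (Localization.AtPrime (q.asIdeal.comap (algebraMap B C)))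
      (Localization.AtPrime q.asIdeal)

/-- A Noetherian local ring with geometrically regular formal fibres is J-2. -/
theorem isJ2_of_isRegularHom_cpl (A : Type u) [CommRing A] [IsNoetherianRing A] [IsLocalRing A]
    (hA : CAlg.IsRegularHom A (EGA4.Cpl A)) : EGA4.IsJ2 A := by
  intro B _ _ hB
  have hN : IsNoetherianRing (EGA4.Cpl A) := Groth.Agent.S0543.result A _
  have hff : Module.FaithfullyFlat A (EGA4.Cpl A) :=
    Groth.Agent.Ega4C.LocusCpl.faithfullyFlat_cpl A
  have hJ : EGA4.IsJ2 (EGA4.Cpl A) := Groth.Agent.S2622.result (EGA4.Cpl A)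
  have hBN : IsNoetherianRing B := Algebra.FiniteType.isNoetherianRing A B
  let _ : Algebra (EGA4.Cpl A) (B ⊗[A] EGA4.Cpl A) := Algebra.TensorProduct.rightAlgebra
  have hft : Algebra.FiniteType (EGA4.Cpl A) (B ⊗[A] EGA4.Cpl A) := by
    have : Algebra.FiniteType (EGA4.Cpl A) ((EGA4.Cpl A) ⊗[A] B) := inferInstance
    refine Algebra.FiniteType.equiv this
      { (Algebra.TensorProduct.comm A (EGA4.Cpl A) B).toRingEquiv with
        commutes' := fun r => ?_ }
    change Algebra.TensorProduct.comm A (EGA4.Cpl A) B (r ⊗ₜ[A] 1) = (1 : B) ⊗ₜ[A] r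
    rw [Algebra.TensorProduct.comm_tmul]
  have hNN : IsNoetherianRing (B ⊗[A] EGA4.Cpl A) :=
    Algebra.FiniteType.isNoetherianRing (EGA4.Cpl A) _
  exact isOpen_regLocus_of_faithfullyFlat B (B ⊗[A] EGA4.Cpl A)
    (Groth.Agent.CalgB.RegHom6.isRegularHom_baseChange B hA) (hJ _ hft)

/-- A local G-ring is J-2. -/
theorem isJ2_of_isGRing (A : Type u) [CommRing A] [IsLocalRing A] (hA : CAlg.IsGRing A) :
    EGA4.IsJ2 A := by
  have := hA.1
  exact isJ2_of_isRegularHom_cpl A
    ((Groth.Agent.CalgB.GRing2.isGRing_iff_of_isLocalRing A).1 hA)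

end K140.LocalJ2
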