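import Groth.Agent.S3831

/-!
# Separability and algebraic closedness of the fraction field of the completion
-/

set_option autoImplicit false

universe u

open TensorProduct

namespace K140.AlgClosedIn

/-- If `Ω ⊗ L` is a domain (`Ω` an algebraic closure of `K`) then `L/K` is separable and `K` is
algebraically closed in `L`. -/
theorem of_isDomain (K L : Type u) [Field K] [Field L] [Algebra K L]
    (h : IsDomain (AlgebraicClosure K ⊗[K] L)) :
    Algebra.IsGeometricallyReduced K L ∧
      ∀ x : L, IsAlgebraic K x → x ∈ Set.range (algebraMap K L) := by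
  refine ⟨?_, fun x hx => ?_⟩
  · rw [Algebra.isGeometricallyReduced_field_iff]
    infer_instance
  · let E := IntermediateField.adjoin K {x}
    have hfin : FiniteDimensional K E := IntermediateField.adjoin.finiteDimensional hx.isIntegral
    let j : E →ₐ[K] AlgebraicClosure K := IsAlgClosed.lift
    let Φ : E ⊗[K] E →ₐ[K] AlgebraicClosure K ⊗[K] L := Algebra.TensorProduct.map j E.val
    have hΦ : Function.Injective Φ := by
      have h1 : Function.Injective (TensorProduct.map j.toLinearMap E.val.toLinearMap) :=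
        TensorProduct.map_injective_of_flat_flat _ _ j.injective E.val.injective
      exact h1
    have hdom : IsDomain (E ⊗[K] E) := hΦ.isDomain Φ.toRingHom
    have hfield : IsField (E ⊗[K] E) := by
      exact isField_of_isIntegral_of_isField' (R := K) (S := E ⊗[K] E) (Field.toIsField K)
    let μ : E ⊗[K] E →ₐ[K] E := Algebra.TensorProduct.lmul' K
    have hμ : Function.Injective μ := by
      let _ : Field (E ⊗[K] E) := hfield.toField
      exact μ.toRingHom.injective
    have h2 : Module.finrank K (E ⊗[K] E) ≤ Module.finrank K E :=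
      LinearMap.finrank_le_finrank_of_injective (f := μ.toLinearMap) hμ
    rw [Module.finrank_tensorProduct] at h2
    have h3 : Module.finrank K E ≤ 1 := by
      by_contra h4
      have h5 : 0 < Module.finrank K E := Module.finrank_pos
      nlinarith
    have h4 : Module.finrank K E = 1 := le_antisymm h3 Module.finrank_pos
    have h5 : E = ⊥ := IntermediateField.finrank_eq_one_iff.1 h4
    have h6 : x ∈ E := IntermediateField.mem_adjoin_simple_self K x
    rw [h5, IntermediateField.mem_bot] at h6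
    exact h6

section

variable (A : Type u) [CommRing A] [IsNoetherianRing A] [HenselianLocalRing A] [IsDomain A]
  (h : EGA4.HasGeomNormalFormalFibres A) [IsDomain (EGA4.Cpl A)]

include h in
omit [IsDomain (EGA4.Cpl A)] in
/-- `Ω ⊗_A Â` is a domain for every field `Ω` containing `A`. -/
theorem isDomain_tensor (Ω : Type u) [Field Ω] [Algebra A Ω] [FaithfulSMul A Ω] :
    IsDomain (Ω ⊗[A] EGA4.Cpl A) := by
  let p : Ideal A := ⊥
  have hp : p.IsPrime := Ideal.isPrime_bot
  have hinj : Function.Injective (algebraMap A Ω) := FaithfulSMul.algebraMap_injective A Ω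
  let φ : p.ResidueField →+* Ω := Ideal.ResidueField.lift p (algebraMap A Ω) (by
      intro x hx
      rw [Ideal.mem_bot.1 hx]
      exact map_zero _) (by
    intro r hr
    refine isUnit_iff_ne_zero.mpr fun h0 => hr ?_
    exact (map_eq_zero_iff _ hinj).1 h0)
  let _ : Algebra p.ResidueField Ω := φ.toAlgebra
  have : IsScalarTower A p.ResidueField Ω := IsScalarTower.of_algebraMap_eq fun r =>
    (Ideal.ResidueField.lift_algebraMap p (algebraMap A Ω) _ _ r).symm
  have h1 := Groth.Agent.S3831.result A h p Ω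
  exact (Algebra.TensorProduct.cancelBaseChange A p.ResidueField p.ResidueField Ω
    (EGA4.Cpl A)).symm.injective.isDomain (Algebra.TensorProduct.cancelBaseChange A p.ResidueField
      p.ResidueField Ω (EGA4.Cpl A)).symm.toAlgHom.toRingHom

variable (K L : Type u) [Field K] [Field L] [Algebra A K] [IsFractionRing A K]
    [Algebra (EGA4.Cpl A) L] [IsFractionRing (EGA4.Cpl A) L] [Algebra K L] [Algebra A L]
    [IsScalarTower A K L] [IsScalarTower A (EGA4.Cpl A) L]

include h in
theorem isDomain_tensor_frac (Ω : Type u) [Field Ω] [Algebra K Ω] : IsDomain (Ω ⊗[K] L) := by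
  let _ : Algebra A Ω := ((algebraMap K Ω).comp (algebraMap A K)).toAlgebra
  have : IsScalarTower A K Ω := IsScalarTower.of_algebraMap_eq fun _ => rfl
  have hf : FaithfulSMul A Ω := by
    rw [faithfulSMul_iff_algebraMap_injective]
    exact (algebraMap K Ω).injective.comp (IsFractionRing.injective A K)
  have h1 := isDomain_tensor A h Ω
  have hKflat : Module.Flat A K := IsLocalization.flat K (nonZeroDivisors A)
  have hΩflat : Module.Flat A Ω := Module.Flat.trans A K Ω
  let C := EGA4.Cpl A
  let ι : Ω ⊗[A] C →ₐ[Ω] Ω ⊗[A] L :=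
    Algebra.TensorProduct.map (AlgHom.id Ω Ω) (IsScalarTower.toAlgHom A C L)
  have hι : Function.Injective ι :=
    Module.Flat.lTensor_preserves_injective_linearMap (M := Ω)
      (IsScalarTower.toAlgHom A C L).toLinearMap (IsFractionRing.injective C L)
  have key : ∀ z : Ω ⊗[A] L, ∃ (s : C) (y : Ω ⊗[A] C), s ≠ 0 ∧
      ι ((1 : Ω) ⊗ₜ[A] s) * z = ι y := by
    intro z
    induction z with
    | zero => exact ⟨1, 0, one_ne_zero, by simp⟩
    | add x y hx hy =>
      obtain ⟨s, a, hs, ha⟩ := hx
      obtain ⟨t, b, ht, hb⟩ := hy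
      refine ⟨s * t, ((1 : Ω) ⊗ₜ[A] t) * a + ((1 : Ω) ⊗ₜ[A] s) * b, mul_ne_zero hs ht, ?_⟩
      have h2 : (1 : Ω) ⊗ₜ[A] (s * t) = ((1 : Ω) ⊗ₜ[A] s) * ((1 : Ω) ⊗ₜ[A] t) := by
        rw [Algebra.TensorProduct.tmul_mul_tmul, one_mul]
      rw [h2, map_add, map_mul, map_mul, map_mul, ← ha, ← hb]
      ring
    | tmul a l =>
      obtain ⟨c, s, hs, rfl⟩ := IsFractionRing.div_surjective (A := C) l
      have hs0 : s ≠ 0 := nonZeroDivisors.ne_zero hs
      have hs1 : algebraMap C L s ≠ 0 := fun h0 =>
        hs0 ((map_eq_zero_iff _ (IsFractionRing.injective C L)).1 h0)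
      refine ⟨s, a ⊗ₜ c, hs0, ?_⟩
      have h2 : ι ((1 : Ω) ⊗ₜ[A] s) = (1 : Ω) ⊗ₜ[A] (algebraMap C L s) := by
        simp [ι]
      have h3 : ι (a ⊗ₜ[A] c) = a ⊗ₜ[A] (algebraMap C L c) := by
        simp [ι]
      rw [h2, h3, Algebra.TensorProduct.tmul_mul_tmul, one_mul, mul_div_cancel₀ _ hs1]
  have hunit : ∀ s : C, s ≠ 0 → IsUnit (ι ((1 : Ω) ⊗ₜ[A] s)) := by
    intro s hs0
    have hs1 : algebraMap C L s ≠ 0 := fun h0 =>
        hs0 ((map_eq_zero_iff _ (IsFractionRing.injective C L)).1 h0)
    have h2 : ι ((1 : Ω) ⊗ₜ[A] s) =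
        (Algebra.TensorProduct.includeRight : L →ₐ[A] Ω ⊗[A] L) (algebraMap C L s) := by
      simp [ι]
    rw [h2]
    exact (isUnit_iff_ne_zero.2 hs1).map _
  have hdom : IsDomain (Ω ⊗[A] L) := by
    have hnt : Nontrivial (Ω ⊗[A] L) := hι.nontrivial
    have hnzd : NoZeroDivisors (Ω ⊗[A] L) := by
      refine ⟨fun {z w} hzw => ?_⟩
      obtain ⟨s, y, hs, hy⟩ := key z
      obtain ⟨t, x, ht, hx⟩ := key w
      have h2 : ι (y * x) = 0 := by
        rw [map_mul, ← hy, ← hx]
        have : ι ((1 : Ω) ⊗ₜ[A] s) * z * (ι ((1 : Ω) ⊗ₜ[A] t) * w) =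
          ι ((1 : Ω) ⊗ₜ[A] s) * ι ((1 : Ω) ⊗ₜ[A] t) * (z * w) := by ring
        rw [this, hzw, mul_zero]
      have h3 : y * x = 0 := hι (by rw [h2, map_zero])
      rcases mul_eq_zero.1 h3 with h4 | h4
      · left
        rw [h4, map_zero] at hy
        exact ((hunit s hs).mul_right_eq_zero).1 hy
      · right
        rw [h4, map_zero] at hx
        exact ((hunit t ht).mul_right_eq_zero).1 hx
    exact NoZeroDivisors.to_isDomain _
  let e := IsLocalization.algebraTensorEquiv (nonZeroDivisors A) K Ω L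
  exact e.injective.isDomain e.toAlgHom.toRingHom

end

end K140.AlgClosedIn
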