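import Groth.Agent.UnramA.FieldFibre
import Groth.Agent.Ega4C.DepthBasics

/-!
Associated primes along a faithfully flat map of Noetherian rings with field fibres (`FieldFibres`:
the local rings of the fibres are fields): a prime is associated iff its contraction is.
-/

set_option autoImplicit false
universe u

namespace K140.AssFibre

open IsLocalRing Groth.Agent.UnramA.FieldFibre

theorem depth_localizedModule_self {B : Type u} [CommRing B] (q : Ideal B) [q.IsPrime] :
    LocCoh.depth (Localization.AtPrime q) (LocalizedModule q.primeCompl B) =
      LocCoh.depth (Localization.AtPrime q) (Localization.AtPrime q) := by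
  let e : LocalizedModule q.primeCompl B ≃ₗ[Localization.AtPrime q] Localization.AtPrime q :=
    (IsLocalizedModule.iso q.primeCompl
      (Algebra.linearMap B (Localization.AtPrime q))).extendScalarsOfIsLocalization
        q.primeCompl (Localization.AtPrime q)
  exact Groth.Agent.Localalg.Depth.idealDepth_congr_equiv _ e

theorem mem_associatedPrimes_iff {B : Type u} [CommRing B] [IsNoetherianRing B] (q : Ideal B)
    [q.IsPrime] : q ∈ associatedPrimes B B ↔
      ¬ (1 : ℕ∞) ≤ LocCoh.depth (Localization.AtPrime q) (Localization.AtPrime q) := by
  rw [← depth_localizedModule_self q,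
    Groth.Agent.Ega4C.DepthBasics.one_le_depth_localizedModule_iff (M := B) q, not_not]

theorem mem_associatedPrimes_iff_comap {A B : Type u} [CommRing A] [CommRing B] [Algebra A B]
    [IsNoetherianRing A] [IsNoetherianRing B] [Module.Flat A B] (H : FieldFibres A B)
    (q : Ideal B) [q.IsPrime] :
    q ∈ associatedPrimes B B ↔ q.comap (algebraMap A B) ∈ associatedPrimes A A := by
  have : q.LiesOver (q.comap (algebraMap A B)) := ⟨rfl⟩
  rw [mem_associatedPrimes_iff, mem_associatedPrimes_iff,
    H.depth_eq (q.comap (algebraMap A B)) q]

end K140.AssFibre
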