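import Groth.Agent.Pi1C.HomScheme
import Groth.Agent.Pi1C.IdemCrit
import Groth.Agent.S2810

/-!
# The scheme of open-closed subsets of a finite locally free scheme
-/

set_option autoImplicit false
set_option backward.isDefEq.respectTransparency false
set_option backward.defeqAttrib.useBackward true
universe u
open CategoryTheory Limits AlgebraicGeometry TensorProduct

namespace K140.ClopenScheme

open Groth.Agent.Pi1C Groth.Agent.Pi1C.HomGlue Groth.Agent.Pi1C.WeilAlg
  Groth.Agent.Pi1C.HomLocal Groth.Agent.Pi1C.HomScheme Groth.Agent.Pi1C.IdemCrit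

variable {X : Scheme.{u}}

/-- The trivial double cover over `X`. -/
noncomputable def V2 (X : Scheme.{u}) : Over X := Over.mk (E' X).hom

/-- second projection -/
noncomputable def v2snd (X : Scheme.{u}) : (V2 X).left ⟶ E.{u} := sndE X

lemma v2_hom_ext {T : Scheme.{u}} (a b : T ⟶ (V2 X).left) (h1 : a ≫ (V2 X).hom = b ≫ (V2 X).hom)
    (h2 : a ≫ v2snd X = b ≫ v2snd X) : a = b :=
  pullback.hom_ext h1 h2

/-- maps to the trivial double cover -/
noncomputable def toV2 {T : Scheme.{u}} (t : T ⟶ X) (e : Γ(T, ⊤)) (he : e * e = e) :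
    T ⟶ (V2 X).left := toE' t (ofIdem e he)

lemma toV2_hom {T : Scheme.{u}} (t : T ⟶ X) (e : Γ(T, ⊤)) (he : e * e = e) :
    toV2 t e he ≫ (V2 X).hom = t := toE'_hom _ _

lemma idemOf_toV2 {T : Scheme.{u}} (t : T ⟶ X) (e : Γ(T, ⊤)) (he : e * e = e) :
    idemOf (toV2 t e he ≫ v2snd X) = e := by
  have : toV2 t e he ≫ v2snd X = ofIdem e he := toE'_snd _ _
  rw [this, idemOf_ofIdem]

/-- the clopen subset of a morphism to the trivial double cover -/
noncomputable def clp {T : Over X} (φ : T ⟶ V2 X) : Set T.left :=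
  (T.left.basicOpen (idemOf (φ.left ≫ v2snd X)) : Set T.left)

lemma clp_isClopen {T : Over X} (φ : T ⟶ V2 X) : IsClopen (clp φ) :=
  isClopen_basicOpen (idemOf_idem _)

lemma clp_comp {T T' : Over X} (a : T' ⟶ T) (φ : T ⟶ V2 X) :
    clp (a ≫ φ) = a.left.base ⁻¹' clp φ := by
  unfold clp
  rw [Over.comp_left, Category.assoc, idemOf_comp, ← Scheme.preimage_basicOpen_top]
  rfl

lemma clp_injective {T : Over X} {φ ψ : T ⟶ V2 X} (h : clp φ = clp ψ) : φ = ψ := by
  ext1
  refine v2_hom_ext _ _ ((Over.w φ).trans (Over.w ψ).symm) ?_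
  apply hom_ext
  exact idem_ext (idemOf_idem _) (idemOf_idem _) h

lemma exists_clp {T : Over X} {C : Set T.left} (hC : IsClopen C) : ∃ φ : T ⟶ V2 X, clp φ = C := by
  obtain ⟨e, he, rfl⟩ := exists_idem_of_isClopen hC
  refine ⟨Over.homMk (toV2 T.hom e he) (toV2_hom _ _ _), ?_⟩
  change (T.left.basicOpen (idemOf (toV2 T.hom e he ≫ v2snd X)) : Set T.left) = _
  rw [idemOf_toV2]

section Loc

variable {A : Type u} [CommRing A] (s : Spec (CommRingCat.of A) ⟶ X)
  {C : Type u} [CommRing C] [Algebra A C]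
  (cV : Spec (CommRingCat.of C) ⟶ (V2 X).left) (hV : IsPullback cV (spm A C) (V2 X).hom s)

include hV in
lemma universal_idem : ∃ c : C, IsIdempotentElem c ∧
    ∀ (T : Type u) [CommRing T] [Algebra A T] (e : T), IsIdempotentElem e →
      ∃! f : C →ₐ[A] T, f c = e := by
  let c : C := (Scheme.ΓSpecIso (CommRingCat.of C)).hom (idemOf (cV ≫ v2snd X))
  have key : ∀ (T : Type u) [CommRing T] [Algebra A T] (f : C →ₐ[A] T),
      (Scheme.ΓSpecIso (CommRingCat.of T)).hom (idemOf (spa f ≫ cV ≫ v2snd X)) = f c := by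
    intro T _ _ f
    rw [idemOf_comp]
    have h1 := Scheme.ΓSpecIso_naturality (CommRingCat.ofHom f.toRingHom)
    have h2 := congrArg (fun z => z.hom (idemOf (cV ≫ v2snd X))) h1
    exact h2
  refine ⟨c, ?_, ?_⟩
  · have := congrArg (Scheme.ΓSpecIso (CommRingCat.of C)).hom (idemOf_idem (cV ≫ v2snd X))
    rw [map_mul] at this
    exact this
  · intro T _ _ e he
    have hinj : Function.Injective (Scheme.ΓSpecIso (CommRingCat.of T)).hom :=
      (ConcreteCategory.bijective_of_isIso (Scheme.ΓSpecIso (CommRingCat.of T)).hom).1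
    have he' : (Scheme.ΓSpecIso (CommRingCat.of T)).inv e *
        (Scheme.ΓSpecIso (CommRingCat.of T)).inv e = (Scheme.ΓSpecIso (CommRingCat.of T)).inv e := by
      rw [← map_mul, he.eq]
    have hw : toV2 (spm A T ≫ s) _ he' ≫ (V2 X).hom = spm A T ≫ s := toV2_hom _ _ _
    obtain ⟨f, hf⟩ := exists_spa (R := A) (S := C) (T := T) (hV.lift _ _ hw) (hV.lift_snd _ _ hw)
    refine ⟨f, ?_, ?_⟩
    · dsimp only
      rw [← key, ← Category.assoc, hf, hV.lift_fst, idemOf_toV2]
      simp
    · intro g hg
      apply spa_injective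
      apply hV.hom_ext
      · refine v2_hom_ext _ _ ?_ ?_
        · rw [Category.assoc, Category.assoc, hV.w, ← Category.assoc, ← Category.assoc, spa_spm,
            spa_spm]
        · apply hom_ext
          apply hinj
          rw [Category.assoc, Category.assoc, key, key, hg, ← key, ← Category.assoc, hf,
            hV.lift_fst, idemOf_toV2]
          simp
      · rw [spa_spm, spa_spm]

end Loc

theorem isRep_of_universal {A B C E : Type u} [CommRing A] [CommRing B] [CommRing C] [CommRing E]
    [Algebra A B] [Algebra A C] [Algebra A E] (c : C) (hc : IsIdempotentElem c)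
    (hu : ∀ (T : Type u) [CommRing T] [Algebra A T] (e : T), IsIdempotentElem e →
      ∃! f : C →ₐ[A] T, f c = e)
    (e₀ : E ⊗[A] B) (he₀ : IsIdempotentElem e₀)
    (h : ∀ (T : Type u) [CommRing T] [Algebra A T] (e : T ⊗[A] B), IsIdempotentElem e →
        ∃! φ : E →ₐ[A] T, Algebra.TensorProduct.map φ (AlgHom.id A B) e₀ = e) :
    ∃ ev : C →ₐ[A] E ⊗[A] B, IsRep ev := by
  obtain ⟨ev, hev, -⟩ := hu (E ⊗[A] B) e₀ he₀
  refine ⟨ev, ?_⟩
  intro T _ _
  have hcc : ∀ f : C →ₐ[A] T ⊗[A] B, IsIdempotentElem (f c) := fun f => hc.map f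
  constructor
  · intro φ ψ hφψ
    have h1 : push ev φ c = push ev ψ c := congrArg (fun f : C →ₐ[A] T ⊗[A] B => f c) hφψ
    rw [push_apply, push_apply, hev] at h1
    exact (h T _ (by
      have := hcc (push ev ψ)
      rwa [push_apply, hev] at this)).unique h1 rfl
  · intro f
    obtain ⟨φ, hφ, -⟩ := h T (f c) (hcc f)
    refine ⟨φ, ?_⟩
    apply (hu _ (f c) (hcc f)).unique _ rfl
    dsimp only
    rw [push_apply, hev, hφ]

lemma projective_of_isPullback (U : Over X) [IsFinite U.hom] [Flat U.hom]
    [LocallyOfFinitePresentation U.hom] {A : Type u} [CommRing A]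
    (s : Spec (CommRingCat.of A) ⟶ X) {B : Type u} [CommRing B] [Algebra A B]
    {b : Spec (CommRingCat.of B) ⟶ U.left} (h : IsPullback b (spm A B) U.hom s) :
    Module.Finite A B ∧ Module.Projective A B := by
  have h1 := finite_of_isPullback s U.hom h
  have h2 : Flat (spm A B) := MorphismProperty.of_isPullback (P := @Flat) h inferInstance
  have h3 : LocallyOfFinitePresentation (spm A B) :=
    MorphismProperty.of_isPullback (P := @LocallyOfFinitePresentation) h inferInstance
  rw [HasRingHomProperty.Spec_iff (P := @Flat)] at h2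
  rw [HasRingHomProperty.Spec_iff (P := @LocallyOfFinitePresentation)] at h3
  have h4 : Module.Flat A B := (RingHom.flat_algebraMap_iff).1 h2
  have h5 : Algebra.FinitePresentation A B := (RingHom.finitePresentation_algebraMap).1 h3
  have : Module.FinitePresentation A B :=
    Module.FinitePresentation.of_finite_of_finitePresentation A B
  exact ⟨h1, Module.Flat.projective_of_finitePresentation⟩

theorem exists_localRep (U : Over X) [IsFinite U.hom] [Flat U.hom]
    [LocallyOfFinitePresentation U.hom] (i : X.affineOpens) :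
    ∃ D : LocalRep U (V2 X) i, Etale D.w.left := by
  have : IsFinite (V2 X).hom := (E' X).prop.1
  obtain ⟨B, _, _, bU, hU⟩ := exists_alg_of_isAffineHom (sp i) U.hom
  obtain ⟨C, _, _, cV, hV⟩ := exists_alg_of_isAffineHom (sp i) (V2 X).hom
  obtain ⟨_, _⟩ := projective_of_isPullback U (sp i) hU
  obtain ⟨c, hc, hu⟩ := universal_idem (sp i) cV hV
  obtain ⟨W, _, _, e₀, hEt, he₀, h⟩ := Groth.Agent.S2810.result Γ(X, i.1) B
  obtain ⟨ev, hev⟩ := isRep_of_universal c hc hu e₀ he₀ h
  let w0 : XT (sp i) W ⟶ Over.mk (sp i) := Over.homMk (spm Γ(X, i.1) W) rfl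
  let D : LocalRep U (V2 X) i :=
    { W := XT (sp i) W
      w := w0 ≫ (spIso i).hom
      aff := inferInstanceAs (IsAffine (Spec _))
      ev := mkφ (sp i) U (V2 X) B C bU hU cV hV W ev
      up := fun T hT t => UP_affine (sp i) U (V2 X) B C bU hU cV hV hev T hT (t ≫ (spIso i).inv) }
  refine ⟨D, ?_⟩
  have h4 : Etale (spm Γ(X, i.1) W) := by
    rw [HasRingHomProperty.Spec_iff (P := @Etale)]
    exact RingHom.etale_algebraMap.2 hEt
  have : IsIso (spIso i).hom.left := inferInstance
  change Etale (spm Γ(X, i.1) W ≫ (spIso i).hom.left)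
  infer_instance

/-- The scheme of open-closed subsets of a finite locally free scheme exists, and it is étale and
affine over the base. -/
theorem exists_clopenScheme (U : Over X) [IsFinite U.hom] [Flat U.hom]
    [LocallyOfFinitePresentation U.hom] :
    ∃ (W : Over X) (ev : (Q U).obj W ⟶ V2 X), IsAffineHom W.hom ∧ Etale W.hom ∧
      ∀ T : Over X, UP ev T := by
  choose D hD using exists_localRep U
  obtain ⟨ev, hev⟩ := exists_ev D
  have hcov : TopologicalSpace.IsOpenCover (fun i : X.affineOpens => i.1) := by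
    rw [TopologicalSpace.IsOpenCover, eq_top_iff]
    intro x _
    obtain ⟨i, hi, hxi, -⟩ := exists_isAffineOpen_mem_and_subset (x := x) (U := ⊤) trivial
    exact TopologicalSpace.Opens.mem_iSup.mpr ⟨⟨i, hi⟩, hxi⟩
  let 𝒰 := X.openCoverOfIsOpenCover (fun i : X.affineOpens => i.1) hcov
  refine ⟨glued D, ev, ?_, ?_, glued_UP D ev hev⟩
  · rw [IsZariskiLocalAtTarget.iff_of_openCover (P := @IsAffineHom) 𝒰]
    intro i
    have h1 : IsPullback (D i).w.left (inc D i).left (𝒰.f i) (glued D).hom :=
      inc_isPullback D i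
    have : IsAffine (D i).W.left := (D i).aff
    have : IsAffine (𝒰.X i) := i.2
    have h0 : IsAffineHom (D i).w.left := by
      have : IsAffine (oObj i).left := i.2
      infer_instance
    have : IsAffineHom (h1.flip.isoPullback.inv ≫ (D i).w.left) := inferInstance
    rwa [h1.flip.isoPullback_inv_snd] at this
  · rw [IsZariskiLocalAtTarget.iff_of_openCover (P := @Etale) 𝒰]
    intro i
    have h1 : IsPullback (D i).w.left (inc D i).left (𝒰.f i) (glued D).hom :=
      inc_isPullback D i
    have : Etale (h1.flip.isoPullback.inv ≫ (D i).w.left) := by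
      have := hD i
      infer_instance
    rwa [h1.flip.isoPullback_inv_snd] at this

end K140.ClopenScheme
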