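import Groth.Agent.Hensel.K146.CoupleTop
import Groth.Agent.S0385
import Mathlib.AlgebraicGeometry.Morphisms.Etale
import Mathlib.AlgebraicGeometry.Morphisms.FlatMono
import Mathlib.AlgebraicGeometry.Morphisms.IsIso
import Mathlib.AlgebraicGeometry.Morphisms.FormallyUnramified
import Mathlib.AlgebraicGeometry.IdealSheaf.Subscheme

/-!
Henselian couples `i : S₀ ⟶ S` (clopen subsets lift uniquely along finite morphisms): sections of
étale separated morphisms lift uniquely.
-/

set_option autoImplicit false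
universe u

open CategoryTheory CategoryTheory.Limits AlgebraicGeometry Topology

namespace K140.CoupleSec

open K146.Couple

/-- The couple condition. -/
def Couple {S S₀ : Scheme.{u}} (i : S₀ ⟶ S) : Prop :=
  ∀ (Y : Scheme.{u}) (g : Y ⟶ S), IsFinite g → HTop (g ⁻¹' (Set.range i))

variable {S S₀ : Scheme.{u}} {i : S₀ ⟶ S}

theorem Couple.comp (h : Couple i) {Y : Scheme.{u}} (g : Y ⟶ S) [IsFinite g] {Y' : Scheme.{u}}
    (g' : Y' ⟶ Y) [IsFinite g'] : HTop (g' ⁻¹' (g ⁻¹' (Set.range i))) := by
  rw [← Set.preimage_comp]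
  exact h Y' (g' ≫ g) inferInstance

/-- An open subset of a finite `S`-scheme containing the part over `S₀` is everything. -/
theorem Couple.eq_univ_of_isOpen (h : Couple i) {Y : Scheme.{u}} (g : Y ⟶ S) [IsFinite g]
    (U : Set Y) (hU : IsOpen U) (hU₀ : g ⁻¹' (Set.range i) ⊆ U) : U = Set.univ := by
  let Z : TopologicalSpace.Closeds Y := ⟨Uᶜ, hU.isClosed_compl⟩
  let I := Scheme.IdealSheafData.vanishingIdeal Z
  have hrange : Set.range I.subschemeι.base = Uᶜ := by
    have h1 := Scheme.IdealSheafData.range_subschemeι I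
    rw [Scheme.IdealSheafData.coe_support_vanishingIdeal] at h1
    exact h1
  have hfin : IsFinite (I.subschemeι ≫ g) := inferInstance
  have h1 := (h _ (I.subschemeι ≫ g) hfin).2 Set.univ isClopen_univ (by
    ext x
    simp only [Set.univ_inter, Set.mem_preimage, Set.mem_empty_iff_false, iff_false]
    intro hx
    have h3 : I.subschemeι.base x ∈ U := hU₀ hx
    have h4 : I.subschemeι.base x ∈ Uᶜ := by
      rw [← hrange]
      exact ⟨x, rfl⟩
    exact h4 h3)
  have h4 : Uᶜ = ∅ := by
    rw [← hrange, ← Set.image_univ, h1, Set.image_empty]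
  exact Set.compl_empty_iff.mp h4

/-- Uniqueness of sections (even with `S'` only unramified over `S`). -/
theorem Couple.section_unique (h : Couple i) {S' : Scheme.{u}} (g : S' ⟶ S)
    [FormallyUnramified g] [LocallyOfFiniteType g] (u u' : S ⟶ S') (hu : u ≫ g = 𝟙 S)
    (hu' : u' ≫ g = 𝟙 S) (he : i ≫ u = i ≫ u') : u = u' := by
  let l : S ⟶ pullback g g := pullback.lift u u' (hu.trans hu'.symm)
  let Δ : S' ⟶ pullback g g := pullback.diagonal g
  have hΔ : IsOpenImmersion Δ := inferInstanceAs (IsOpenImmersion (pullback.diagonal g))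
  have hl1 : l ≫ pullback.fst g g = u := pullback.lift_fst _ _ _
  have hl2 : l ≫ pullback.snd g g = u' := pullback.lift_snd _ _ _
  have hd1 : Δ ≫ pullback.fst g g = 𝟙 S' := pullback.diagonal_fst g
  have hd2 : Δ ≫ pullback.snd g g = 𝟙 S' := pullback.diagonal_snd g
  have hil : i ≫ l = (i ≫ u) ≫ Δ := by
    apply pullback.hom_ext
    · rw [Category.assoc, hl1, Category.assoc, hd1, Category.comp_id]
    · rw [Category.assoc, hl2, Category.assoc, hd2, Category.comp_id, he]
  have hrange : Set.range l.base ⊆ Set.range Δ.base := by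
    have h1 := h.eq_univ_of_isOpen (𝟙 S) (l.base ⁻¹' (Set.range Δ.base))
      (hΔ.base_open.isOpen_range.preimage l.base.hom.continuous) (by
        rintro _ ⟨y, rfl⟩
        exact ⟨(i ≫ u).base y, (congrArg (fun k => k.base y) hil).symm⟩)
    rintro _ ⟨x, rfl⟩
    have : x ∈ l.base ⁻¹' (Set.range Δ.base) := h1 ▸ Set.mem_univ x
    exact this
  let s := IsOpenImmersion.lift Δ l hrange
  have hs : s ≫ Δ = l := IsOpenImmersion.lift_fac Δ l hrange
  have e1 : u = s := by
    rw [← hl1, ← hs, Category.assoc, hd1, Category.comp_id]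
  have e2 : u' = s := by
    rw [← hl2, ← hs, Category.assoc, hd2, Category.comp_id]
  exact e1.trans e2.symm

/-- A section of an étale morphism is an open immersion. -/
theorem isOpenImmersion_section {X Y : Scheme.{u}} (f : X ⟶ Y) [Etale f] (s : Y ⟶ X)
    (hs : s ≫ f = 𝟙 Y) : IsOpenImmersion s := by
  have h1 : Etale (s ≫ f) := by rw [hs]; infer_instance
  have h2 : Etale s := Etale.of_comp s f
  have h3 : Mono s := by
    have : Mono (s ≫ f) := by rw [hs]; infer_instance
    exact mono_of_mono s f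
  exact IsOpenImmersion.of_flat_of_mono s

/-- A finite étale morphism `h` to `S` with a lift `w` of `i` whose image is everything over `S₀`
is an isomorphism. -/
theorem Couple.isIso_of_finite_etale [IsClosedImmersion i] (hc : Couple i) {U : Scheme.{u}}
    (h : U ⟶ S) [IsFinite h]
    [Etale h] (w : S₀ ⟶ U) (hw : w ≫ h = i) (hr : h ⁻¹' (Set.range i) ⊆ Set.range w.base) :
    IsIso h := by
  -- the base change to `S₀` is an isomorphism
  let s : S₀ ⟶ pullback h i := pullback.lift w (𝟙 _) (by rw [hw, Category.id_comp])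
  have hs : s ≫ pullback.snd h i = 𝟙 _ := pullback.lift_snd _ _ _
  have hs1 : s ≫ pullback.fst h i = w := pullback.lift_fst _ _ _
  have hsO : IsOpenImmersion s := isOpenImmersion_section (pullback.snd h i) s hs
  have hsS : Surjective s := by
    constructor
    intro x
    have h1 : (pullback.fst h i).base x ∈ h ⁻¹' (Set.range i) := by
      refine ⟨(pullback.snd h i).base x, ?_⟩
      exact (congrArg (fun k => k.base x) (pullback.condition (f := h) (g := i))).symm
    obtain ⟨y, hy⟩ := hr h1
    refine ⟨y, ?_⟩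
    apply (pullback.fst h i).isClosedEmbedding.injective
    rw [← hy]
    exact congrArg (fun k => k.base y) hs1
  have hsI : IsIso s := (isIso_iff_isOpenImmersion_and_surjective s).mpr ⟨hsO, hsS⟩
  have hmono : Mono (pullback.snd h i) := by
    have : pullback.snd h i = inv s := by
      rw [eq_comm, IsIso.inv_eq_of_hom_inv_id hs]
    rw [this]
    infer_instance
  -- the diagonal
  let Δ : U ⟶ pullback h h := pullback.diagonal h
  have hΔ : IsOpenImmersion Δ := inferInstanceAs (IsOpenImmersion (pullback.diagonal h))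
  have hΔr : Set.range Δ.base = Set.univ := by
    refine hc.eq_univ_of_isOpen (pullback.fst h h ≫ h) _ hΔ.base_open.isOpen_range ?_
    intro x hx
    obtain ⟨y, hy⟩ := hx
    -- a point of `pullback (fst ≫ h) i`
    obtain ⟨z, hz1, hz2⟩ := Scheme.Pullback.exists_preimage_pullback (f := pullback.fst h h ≫ h)
      (g := i) x y hy.symm
    let p1 : pullback (pullback.fst h h ≫ h) i ⟶ U := pullback.fst _ _ ≫ pullback.fst h h
    let p2 : pullback (pullback.fst h h ≫ h) i ⟶ U := pullback.fst _ _ ≫ pullback.snd h h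
    let q := pullback.snd (pullback.fst h h ≫ h) i
    have hp1 : p1 ≫ h = q ≫ i := by
      simp only [p1, q, Category.assoc]
      exact pullback.condition
    have hp2 : p2 ≫ h = q ≫ i := by
      rw [← hp1]
      simp only [p1, p2, Category.assoc]
      rw [← pullback.condition (f := h) (g := h)]
    have h12 : p1 = p2 := by
      have h3 : pullback.lift p1 q hp1 = pullback.lift p2 q hp2 := by
        rw [← cancel_mono (pullback.snd h i), pullback.lift_snd, pullback.lift_snd]
      have h4 := congrArg (· ≫ pullback.fst h i) h3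
      simp only [pullback.lift_fst] at h4
      exact h4
    have h5 : pullback.fst (pullback.fst h h ≫ h) i = p1 ≫ Δ := by
      apply pullback.hom_ext
      · rw [Category.assoc, pullback.diagonal_fst, Category.comp_id]
      · rw [Category.assoc, pullback.diagonal_snd, Category.comp_id, h12]
    refine ⟨p1.base z, ?_⟩
    rw [← hz1]
    exact (congrArg (fun k => k.base z) h5).symm
  have hΔS : Surjective Δ := ⟨Set.range_eq_univ.mp hΔr⟩
  have hΔI : IsIso Δ := Flat.isIso_of_surjective_of_mono Δ
  have hm : Mono h := (pullback.isIso_diagonal_iff h).mp hΔI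
  have hO : IsOpenImmersion h := IsOpenImmersion.of_flat_of_mono h
  have hr2 : Set.range h.base = Set.univ := by
    refine hc.eq_univ_of_isOpen (𝟙 S) _ hO.base_open.isOpen_range ?_
    rintro _ ⟨y, rfl⟩
    exact ⟨w.base y, congrArg (fun k => k.base y) hw⟩
  have hS : Surjective h := ⟨Set.range_eq_univ.mp hr2⟩
  exact Flat.isIso_of_surjective_of_mono h

theorem locallyQuasiFinite_of_etale {X Y : Scheme.{u}} (f : X ⟶ Y) [Etale f] :
    LocallyQuasiFinite f where
  quasiFinite_appLE {U} hU {V} hV e := by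
    have h := HasRingHomProperty.appLE @Etale f ‹_› ⟨U, hU⟩ ⟨V, hV⟩ e
    algebraize [(f.appLE U V e).hom]
    change Algebra.QuasiFinite Γ(Y, U) Γ(X, V)
    infer_instance

/-- existence of sections, quasi-compact case -/
theorem Couple.exists_section_aux [IsClosedImmersion i] [CompactSpace ↥S] [QuasiSeparatedSpace ↥S]
    (hc : Couple i) {V : Scheme.{u}} (g : V ⟶ S) [Etale g] [IsSeparated g] [QuasiCompact g]
    (v : S₀ ⟶ V) (hv : v ≫ g = i) : ∃ u : S ⟶ V, u ≫ g = 𝟙 S ∧ i ≫ u = v := by
  have hqf : LocallyQuasiFinite g := locallyQuasiFinite_of_etale g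
  obtain ⟨T, j, π, hj, -, hπ, hjπ⟩ := Groth.Agent.S0385.result g
  have hjv : (v ≫ j) ≫ π = i := by rw [Category.assoc, hjπ, hv]
  have hcl : IsClosedImmersion (v ≫ j) := by
    have : IsClosedImmersion ((v ≫ j) ≫ π) := by rw [hjv]; infer_instance
    exact IsClosedImmersion.of_comp (v ≫ j) π
  -- the open set `O` of `V`
  let s : S₀ ⟶ pullback g i := pullback.lift v (𝟙 _) (by rw [hv, Category.id_comp])
  have hs : s ≫ pullback.snd g i = 𝟙 _ := pullback.lift_snd _ _ _
  have hs1 : s ≫ pullback.fst g i = v := pullback.lift_fst _ _ _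
  have hsO : IsOpenImmersion s := isOpenImmersion_section (pullback.snd g i) s hs
  obtain ⟨O, hO, hOs⟩ := (pullback.fst g i).isClosedEmbedding.isInducing.isOpen_iff.mp
    hsO.base_open.isOpen_range
  have hO1 : O ∩ g ⁻¹' (Set.range i) = Set.range v.base := by
    ext x
    constructor
    · rintro ⟨hx, y, hy⟩
      obtain ⟨z, hz1, hz2⟩ := Scheme.Pullback.exists_preimage_pullback (f := g) (g := i) x y hy.symm
      have hz : z ∈ Set.range s.base := by
        have hOs' : (pullback.fst g i) ⁻¹' O = Set.range s.base := hOs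
        rw [← hOs']
        change (pullback.fst g i).base z ∈ O
        rw [hz1]
        exact hx
      obtain ⟨t, rfl⟩ := hz
      refine ⟨t, ?_⟩
      rw [← hz1]
      exact (congrArg (fun k => k.base t) hs1).symm
    · rintro ⟨t, rfl⟩
      refine ⟨?_, t, ?_⟩
      · have : s.base t ∈ (pullback.fst g i) ⁻¹' O := by
          have hOs' : (pullback.fst g i) ⁻¹' O = Set.range s.base := hOs
          rw [hOs']
          exact ⟨t, rfl⟩
        have h2 : (pullback.fst g i).base (s.base t) = v.base t :=
          congrArg (fun k => k.base t) hs1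
        rw [← h2]
        exact this
      · exact (congrArg (fun k => k.base t) hv).symm
  have hcl2 : IsClosed (π ⁻¹' (Set.range i) \ (j.base '' O)) :=
    (i.isClosedEmbedding.isClosed_range.preimage π.continuous).sdiff
      (hj.base_open.isOpenMap _ hO)
  obtain ⟨W, hW, hWr⟩ := (hc T π hπ).1 (Set.range (v ≫ j).base)
    (π ⁻¹' (Set.range i) \ (j.base '' O)) hcl.isClosedEmbedding.isClosed_range hcl2 (by
      rw [Set.disjoint_left]
      rintro _ ⟨t, rfl⟩ ⟨-, h2⟩
      apply h2
      have h3 : v.base t ∈ O ∩ g ⁻¹' (Set.range i) := by rw [hO1]; exact ⟨t, rfl⟩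
      exact ⟨v.base t, h3.1, rfl⟩) (by
      ext x
      constructor
      · rintro (⟨t, rfl⟩ | ⟨h1, -⟩)
        · exact ⟨t, (congrArg (fun k => k.base t) hjv).symm⟩
        · exact h1
      · intro hx
        by_cases h2 : x ∈ j.base '' O
        · left
          obtain ⟨y, hy, rfl⟩ := h2
          have h3 : y ∈ O ∩ g ⁻¹' (Set.range i) := by
            refine ⟨hy, ?_⟩
            obtain ⟨t, ht⟩ := hx
            refine ⟨t, ?_⟩
            rw [ht]
            exact congrArg (fun k => k.base y) hjπ
          rw [hO1] at h3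
          obtain ⟨t, rfl⟩ := h3
          exact ⟨t, rfl⟩
        · exact Or.inr ⟨hx, h2⟩)
  -- the clopen subscheme `W`
  let W' : T.Opens := ⟨W, hW.isOpen⟩
  have hWcl : IsClosedImmersion W'.ι := by
    apply IsClosedImmersion.of_isPreimmersion
    rw [Scheme.Opens.range_ι]
    exact hW.isClosed
  have hfin : IsFinite (W'.ι ≫ π) := inferInstance
  have hWj : Set.range W'.ι.base ⊆ Set.range j.base := by
    have h1 := hc.eq_univ_of_isOpen (W'.ι ≫ π) (W'.ι.base ⁻¹' (Set.range j.base))
      (hj.base_open.isOpen_range.preimage W'.ι.continuous) (by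
        intro x hx
        have h2 : W'.ι.base x ∈ W ∩ π ⁻¹' (Set.range i) := ⟨x.2, hx⟩
        rw [hWr] at h2
        obtain ⟨t, ht⟩ := h2
        exact ⟨v.base t, ht⟩)
    rintro _ ⟨x, rfl⟩
    have : x ∈ W'.ι.base ⁻¹' (Set.range j.base) := h1 ▸ Set.mem_univ x
    exact this
  let k := IsOpenImmersion.lift j W'.ι hWj
  have hk : k ≫ j = W'.ι := IsOpenImmersion.lift_fac j W'.ι hWj
  have hkO : IsOpenImmersion k := by
    have : IsOpenImmersion (k ≫ j) := by rw [hk]; infer_instance
    exact IsOpenImmersion.of_comp k j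
  have hkg : k ≫ g = W'.ι ≫ π := by rw [← hjπ, ← Category.assoc, hk]
  have het : Etale (W'.ι ≫ π) := by rw [← hkg]; infer_instance
  have hvW : Set.range (v ≫ j).base ⊆ Set.range W'.ι.base := by
    rw [← hWr, Scheme.Opens.range_ι]
    exact Set.inter_subset_left
  let w := IsOpenImmersion.lift W'.ι (v ≫ j) hvW
  have hw : w ≫ W'.ι = v ≫ j := IsOpenImmersion.lift_fac _ _ _
  have hwk : w ≫ k = v := by
    rw [← cancel_mono j, Category.assoc, hk, hw]
  have hIso : IsIso (W'.ι ≫ π) := by
    refine hc.isIso_of_finite_etale (W'.ι ≫ π) w ?_ ?_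
    · rw [← Category.assoc, hw, hjv]
    · intro x hx
      have h2 : W'.ι.base x ∈ W ∩ π ⁻¹' (Set.range i) := ⟨x.2, hx⟩
      rw [hWr] at h2
      obtain ⟨t, ht⟩ := h2
      refine ⟨t, ?_⟩
      apply W'.ι.isOpenEmbedding.injective
      rw [← ht]
      exact congrArg (fun k => k.base t) hw
  refine ⟨inv (W'.ι ≫ π) ≫ k, ?_, ?_⟩
  · rw [Category.assoc, hkg, IsIso.inv_hom_id]
  · have h3 : i = w ≫ (W'.ι ≫ π) := by
      rw [← Category.assoc, hw, hjv]
    rw [h3, Category.assoc, IsIso.hom_inv_id_assoc, hwk]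

/-- existence and uniqueness of sections of étale separated morphisms along a couple. -/
theorem Couple.existsUnique_section [IsClosedImmersion i] [CompactSpace ↥S]
    [QuasiSeparatedSpace ↥S] (hc : Couple i) {S' : Scheme.{u}} (g : S' ⟶ S) [Etale g]
    [IsSeparated g] (v : S₀ ⟶ S') (hv : v ≫ g = i) :
    ∃! u : S ⟶ S', u ≫ g = 𝟙 S ∧ i ≫ u = v := by
  have hS₀ : CompactSpace ↥S₀ := QuasiCompact.compactSpace_of_compactSpace i
  have hK : IsCompact (Set.range v.base) := isCompact_range v.continuous
  obtain ⟨V, hVc, hVo, hKV, -⟩ :=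
    PrespectralSpace.exists_isCompact_and_isOpen_between hK isOpen_univ (Set.subset_univ _)
  let V' : S'.Opens := ⟨V, hVo⟩
  have hVcs : CompactSpace ↥(V' : Scheme.{u}) := isCompact_iff_compactSpace.mp hVc
  have hqc : QuasiCompact (V'.ι ≫ g) := inferInstance
  have hv' : Set.range v.base ⊆ Set.range V'.ι.base := by
    rw [Scheme.Opens.range_ι]
    exact hKV
  let v' := IsOpenImmersion.lift V'.ι v hv'
  have hv'' : v' ≫ V'.ι = v := IsOpenImmersion.lift_fac _ _ _
  obtain ⟨u, hu1, hu2⟩ := hc.exists_section_aux (V'.ι ≫ g) v' (by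
    rw [← Category.assoc, hv'', hv])
  refine ⟨u ≫ V'.ι, ⟨by rw [Category.assoc, hu1], by rw [← Category.assoc, hu2, hv'']⟩, ?_⟩
  rintro u' ⟨hu'1, hu'2⟩
  refine hc.section_unique g u' (u ≫ V'.ι) hu'1 (by rw [Category.assoc, hu1]) ?_
  rw [hu'2, ← Category.assoc, hu2, hv'']

end K140.CoupleSec
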