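import Groth.Prelude.Def_FlatCA
import Mathlib.RingTheory.Flat.EquationalCriterion
import Mathlib.RingTheory.Idempotents
import Mathlib.RingTheory.Nakayama
import Mathlib.LinearAlgebra.Matrix.ToLin

/-!
# Limits of finite flat modules along surjections with nil kernel
-/

set_option autoImplicit false
universe u

namespace K140.LimProj

open Matrix

/-- Equational criterion in a convenient form. -/
theorem exists_theta {R : Type u} [CommRing R] {M : Type u} [AddCommGroup M] [Module R M]
    [Module.Flat R M] {k : ℕ} (f : (Fin k → R) →ₗ[R] M) (hf : Function.Surjective f)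
    (y : Fin k → R) (hy : f y = 0) :
    ∃ θ : (Fin k → R) →ₗ[R] (Fin k → R), θ y = y ∧ ∀ x, f (θ x) = 0 := by
  obtain ⟨l, a, g, hfg, hay⟩ := Module.Flat.exists_factorization_of_apply_eq_zero_of_free hy
  obtain ⟨b, hb⟩ := Module.projective_lifting_property f g hf
  refine ⟨LinearMap.id - b ∘ₗ a, ?_, fun x => ?_⟩
  · simp [hay]
  · have h1 : f (b (a x)) = g (a x) := congrArg (fun z : (Fin l →₀ R) →ₗ[R] M => z (a x)) hb
    have h2 : f x = g (a x) := congrArg (fun z : (Fin k → R) →ₗ[R] M => z x) hfg
    simp [h1, h2]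

/-- An endomorphism of `R^k` with coefficients in a nil ideal is nilpotent. -/
theorem exists_pow_eq_zero {R : Type u} [CommRing R] (I : Ideal R) (hI : ∀ x ∈ I, IsNilpotent x)
    {k : ℕ} (θ : (Fin k → R) →ₗ[R] (Fin k → R)) (hθ : ∀ x i, θ x i ∈ I) :
    ∃ N : ℕ, ∀ x, (θ ^ N) x = 0 := by
  let J : Ideal R := Ideal.span (Set.range fun p : Fin k × Fin k => θ (Pi.single p.1 1) p.2)
  have hJfg : J.FG := Submodule.fg_span (Set.finite_range _)
  have hJI : J ≤ I := Ideal.span_le.2 (by rintro _ ⟨p, rfl⟩; exact hθ _ _)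
  have hJnil : IsNilpotent J := by
    rw [Ideal.FG.isNilpotent_iff_le_nilradical hJfg]
    intro x hx
    exact mem_nilradical.2 (hI x (hJI hx))
  obtain ⟨N, hN⟩ := hJnil
  have key : ∀ m : ℕ, ∀ x : Fin k → R, ∀ i, (θ ^ m) x i ∈ J ^ m := by
    intro m
    induction m with
    | zero => intro x i; simp
    | succ m ih =>
      intro x i
      have h1 : (θ ^ (m + 1)) x = θ ((θ ^ m) x) := by
        rw [pow_succ', Module.End.mul_apply]
      rw [h1]
      have h2 : (θ ^ m) x = ∑ j, ((θ ^ m) x j) • (Pi.single j (1 : R) : Fin k → R) := by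
        rw [← pi_eq_sum_univ' ((θ ^ m) x)]
      rw [h2, map_sum, Finset.sum_apply]
      refine Ideal.sum_mem _ fun j _ => ?_
      rw [map_smul, Pi.smul_apply, smul_eq_mul, pow_succ]
      exact Ideal.mul_mem_mul (ih x j) (Ideal.subset_span ⟨(j, i), rfl⟩)
  refine ⟨N, fun x => ?_⟩
  funext i
  have := key N x i
  rw [hN] at this
  simpa using this

/-- A surjection onto `M / I M` modulo a nil ideal is a surjection onto `M`. -/
theorem surjective_of_surjective {R R' : Type u} [CommRing R] [CommRing R'] (t : R →+* R')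
    (ht : Function.Surjective t)
    (hnil : ∀ x, t x = 0 → IsNilpotent x) {M M' : Type u} [AddCommGroup M] [Module R M]
    [Module.Finite R M] [AddCommGroup M'] [Module R' M'] (u : M →ₛₗ[t] M')
    (hu : LinearMap.ker u = RingHom.ker t • (⊤ : Submodule R M)) {k : ℕ}
    (f : (Fin k → R) →ₗ[R] M) (f' : (Fin k → R') →ₗ[R'] M')
    (hff' : ∀ x, u (f x) = f' (fun i => t (x i))) (hf' : Function.Surjective f') :
    Function.Surjective f := by
  rw [← LinearMap.range_eq_top]
  have h1 : (⊤ : Submodule R M) ≤ LinearMap.range f ⊔ RingHom.ker t • (⊤ : Submodule R M) := by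
    intro m _
    obtain ⟨x', hx'⟩ := hf' (u m)
    choose x hx using fun i => ht (x' i)
    have h2 : u (f x) = u m := by
      rw [hff', ← hx']
      congr 1
      funext i
      exact hx i
    have h3 : m - f x ∈ RingHom.ker t • (⊤ : Submodule R M) := by
      rw [← hu, LinearMap.mem_ker, map_sub, h2, sub_self]
    have h4 : m = f x + (m - f x) := by abel
    rw [h4]
    exact Submodule.add_mem_sup ⟨x, rfl⟩ h3
  refine top_le_iff.1 (Submodule.le_of_le_smul_of_le_jacobson_bot Module.Finite.fg_top ?_ h1)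
  exact (show RingHom.ker t ≤ nilradical R from fun x hx => mem_nilradical.2 (hnil x hx)).trans
    ((nilradical_le_jacobson R).trans (le_of_eq Ideal.jacobson_bot.symm))

/-- **The lifting step**: presentations of `M'` as a direct summand of a free module lift to the
finite flat module `M` along a surjection of rings with nil kernel. -/
theorem step {R R' : Type u} [CommRing R] [CommRing R'] (t : R →+* R')
    (ht : Function.Surjective t)
    (hnil : ∀ x, t x = 0 → IsNilpotent x) {M M' : Type u} [AddCommGroup M] [Module R M]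
    [Module.Finite R M] [Module.Flat R M] [AddCommGroup M'] [Module R' M'] (u : M →ₛₗ[t] M')
    (hus : Function.Surjective u)
    (hu : LinearMap.ker u = RingHom.ker t • (⊤ : Submodule R M)) {k : ℕ}
    (f' : (Fin k → R') →ₗ[R'] M') (s' : M' →ₗ[R'] (Fin k → R')) (hfs' : ∀ m, f' (s' m) = m) :
    ∃ (f : (Fin k → R) →ₗ[R] M) (s : M →ₗ[R] (Fin k → R)), (∀ m, f (s m) = m) ∧
      (∀ x, u (f x) = f' (fun i => t (x i))) ∧ ∀ m i, t (s m i) = s' (u m) i := by
  -- lift of `f'`
  choose m hm using fun j => hus (f' (Pi.single j 1))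
  let f₀ : (Fin k → R) →ₗ[R] M := Fintype.linearCombination R m
  have hf₀ : ∀ x, u (f₀ x) = f' (fun i => t (x i)) := by
    intro x
    have h1 : f₀ x = ∑ i, x i • m i := Fintype.linearCombination_apply R m x
    have h2 : (fun i => t (x i)) = ∑ i, t (x i) • (Pi.single i (1 : R') : Fin k → R') := by
      rw [← pi_eq_sum_univ' (fun i => t (x i))]
    rw [h1, h2, map_sum, map_sum]
    refine Finset.sum_congr rfl fun i _ => ?_
    rw [map_smulₛₗ, map_smul, hm]
  -- lift of the idempotent
  let p' : (Fin k → R') →ₗ[R'] (Fin k → R') := s' ∘ₗ f'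
  have hp' : IsIdempotentElem (LinearMap.toMatrix' p') := by
    have h1 : p' ∘ₗ p' = p' := by
      refine LinearMap.ext fun x => ?_
      change s' (f' (s' (f' x))) = s' (f' x)
      rw [hfs']
    have h2 : LinearMap.toMatrix' (p' ∘ₗ p') = LinearMap.toMatrix' p' * LinearMap.toMatrix' p' :=
      LinearMap.toMatrix'_comp p' p'
    rw [h1] at h2
    exact h2.symm
  have hker : ∀ x ∈ RingHom.ker (t.mapMatrix (m := Fin k)), IsNilpotent x := by
    intro x hx
    obtain ⟨N, hN⟩ := exists_pow_eq_zero (RingHom.ker t) (fun y hy => hnil y hy)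
      (Matrix.toLin' x) (fun y i => by
        rw [Matrix.toLin'_apply, Matrix.mulVec, dotProduct]
        refine Ideal.sum_mem _ fun j _ => Ideal.mul_mem_right _ _ ?_
        exact congrFun (congrFun hx i) j)
    refine ⟨N, ?_⟩
    apply Matrix.toLin'.injective
    rw [Matrix.toLin'_pow, map_zero]
    exact LinearMap.ext fun y => hN y
  obtain ⟨P, hP, hPp⟩ := exists_isIdempotentElem_eq_of_ker_isNilpotent (t.mapMatrix (m := Fin k))
    hker (LinearMap.toMatrix' p') (by
      choose g hg using ht
      refine ⟨Matrix.of fun i j => g (LinearMap.toMatrix' p' i j), ?_⟩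
      ext i j
      simp [hg]) hp'
  let p : (Fin k → R) →ₗ[R] (Fin k → R) := Matrix.toLin' P
  have hpp : ∀ x, p (p x) = p x := by
    intro x
    have : Matrix.toLin' (P * P) = Matrix.toLin' P ∘ₗ Matrix.toLin' P := Matrix.toLin'_mul P P
    rw [hP.eq] at this
    exact (congrArg (fun z : (Fin k → R) →ₗ[R] (Fin k → R) => z x) this).symm
  have hpt : ∀ x i, t (p x i) = s' (f' (fun i => t (x i))) i := by
    intro x i
    have h1 : s' (f' (fun i => t (x i))) = LinearMap.toMatrix' p' *ᵥ (fun i => t (x i)) := by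
      rw [LinearMap.toMatrix'_mulVec]
      rfl
    rw [h1, ← hPp]
    simp [p, Matrix.mulVec, dotProduct]
  -- the corrected surjection
  let f : (Fin k → R) →ₗ[R] M := f₀ ∘ₗ p
  have hfu : ∀ x, u (f x) = f' (fun i => t (x i)) := by
    intro x
    change u (f₀ (p x)) = _
    rw [hf₀]
    have h1 : (fun i => t (p x i)) = s' (f' (fun i => t (x i))) := funext (hpt x)
    rw [h1, hfs']
  have hfs : Function.Surjective f :=
    surjective_of_surjective t ht hnil u hu f f' hfu fun m' => ⟨s' m', hfs' m'⟩
  have hfp : ∀ y, f y = 0 → p y = 0 := by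
    intro y hy
    have hy' : f (p y) = 0 := by
      change f₀ (p (p y)) = 0
      rw [hpp]
      exact hy
    obtain ⟨θ, hθy, hθ⟩ := exists_theta f hfs (p y) hy'
    obtain ⟨N, hN⟩ := exists_pow_eq_zero (RingHom.ker t) (fun y hy => hnil y hy) (p ∘ₗ θ) (by
      intro x i
      rw [RingHom.mem_ker]
      change t (p (θ x) i) = 0
      rw [hpt, ← hfu, hθ, map_zero, map_zero]
      rfl)
    have h1 : ∀ N : ℕ, ((p ∘ₗ θ) ^ N) (p y) = p y := by
      intro N
      induction N with
      | zero => simp
      | succ N ih =>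
        rw [pow_succ, Module.End.mul_apply]
        change ((p ∘ₗ θ) ^ N) (p (θ (p y))) = p y
        rw [hθy, hpp, ih]
    rw [← h1 N, hN]
  -- the section
  let q : ((Fin k → R) ⧸ LinearMap.ker f) →ₗ[R] (Fin k → R) := (LinearMap.ker f).liftQ p
    (fun y hy => hfp y hy)
  let e := f.quotKerEquivOfSurjective hfs
  let s : M →ₗ[R] (Fin k → R) := q ∘ₗ e.symm.toLinearMap
  have hs : ∀ x, s (f x) = p x := by
    intro x
    have h1 : e.symm (f x) = (LinearMap.ker f).mkQ x := by
      rw [LinearEquiv.symm_apply_eq]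
      rfl
    change q (e.symm (f x)) = p x
    rw [h1]
    rfl
  refine ⟨f, s, fun m => ?_, hfu, fun m i => ?_⟩
  · obtain ⟨x, rfl⟩ := hfs m
    rw [hs]
    change f₀ (p (p x)) = f₀ (p x)
    rw [hpp]
  · obtain ⟨x, rfl⟩ := hfs m
    rw [hs, hpt, hfu]

section System

variable {An : ℕ → Type u} [∀ n, CommRing (An n)] (t : ∀ n, An (n + 1) →+* An n)
  {M : ℕ → Type u} [∀ n, AddCommGroup (M n)] [∀ n, Module (An n) (M n)]
  (u : ∀ n, M (n + 1) →ₛₗ[t n] M n)

/-- splitting data over `A_n` -/
structure SD (k n : ℕ) where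
  f : (Fin k → An n) →ₗ[An n] M n
  s : M n →ₗ[An n] (Fin k → An n)
  fs : ∀ m, f (s m) = m

/-- compatibility -/
structure Compat {k n : ℕ} (D : SD (An := An) (M := M) k (n + 1))
    (D' : SD (An := An) (M := M) k n) : Prop where
  hf : ∀ x, u n (D.f x) = D'.f (fun i => t n (x i))
  hs : ∀ m i, t n (D.s m i) = D'.s (u n m) i

theorem exists_system (ht : ∀ n, Function.Surjective (t n))
    (hnil : ∀ n (x : An (n + 1)), t n x = 0 → IsNilpotent x)
    [Module.Projective (An 0) (M 0)] (hfin : ∀ n, Module.Finite (An n) (M n))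
    (hflat : ∀ n, Module.Flat (An n) (M n))
    (hu : ∀ n, Function.Surjective (u n) ∧
      LinearMap.ker (u n) = RingHom.ker (t n) • (⊤ : Submodule (An (n + 1)) (M (n + 1)))) :
    ∃ (k : ℕ) (D : ∀ n, SD (An := An) (M := M) k n), ∀ n, Compat t u (D (n + 1)) (D n) := by
  obtain ⟨k, f, g, -, -, hfg⟩ := Module.Finite.exists_comp_eq_id_of_projective (An 0) (M 0)
  have hstep : ∀ (n : ℕ) (D' : SD (An := An) (M := M) k n),
      ∃ D : SD (An := An) (M := M) k (n + 1), Compat t u D D' := by
    intro n D'
    obtain ⟨f, s, h1, h2, h3⟩ := step (t n) (ht n) (hnil n) (u n) (hu n).1 (hu n).2 D'.f D'.s D'.fs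
    exact ⟨⟨f, s, h1⟩, ⟨h2, h3⟩⟩
  choose F hF using hstep
  let D : ∀ n, SD (An := An) (M := M) k n := fun n =>
    Nat.rec (motive := fun n => SD (An := An) (M := M) k n)
      ⟨f, g, fun m => congrArg (fun z : M 0 →ₗ[An 0] M 0 => z m) hfg⟩ (fun n D' => F n D') n
  exact ⟨k, D, fun n => hF n (D n)⟩

end System

section Limit

variable (A : Type u) [CommRing A] {An : ℕ → Type u} [∀ n, CommRing (An n)]
  (t : ∀ n, An (n + 1) →+* An n) (π : ∀ n, A →+* An n)
  {M : ℕ → Type u} [∀ n, AddCommGroup (M n)] [∀ n, Module (An n) (M n)]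
  (u : ∀ n, M (n + 1) →ₛₗ[t n] M n)

theorem exists_limit (hA : FlatCA.IsRingLimit A An t π) (hπ : ∀ n, Function.Surjective (π n))
    (k : ℕ) (D : ∀ n, SD (An := An) (M := M) k n) (hD : ∀ n, Compat t u (D (n + 1)) (D n)) :
    ∃ (P : Type u) (_ : AddCommGroup P) (_ : Module A P) (p : ∀ n, P →ₛₗ[π n] M n),
      Module.Finite A P ∧ Module.Projective A P ∧ (∀ n (x : P), u n (p (n + 1) x) = p n x) ∧
      (∀ n, Function.Surjective (p n) ∧
        LinearMap.ker (p n) = RingHom.ker (π n) • (⊤ : Submodule A P)) ∧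
      (∀ x : (∀ n, M n), (∀ n, u n (x (n + 1)) = x n) → ∃! q : P, ∀ n, p n q = x n) := by
  obtain ⟨h1, h2, h3⟩ := hA
  have h1' : ∀ n a, t n (π (n + 1) a) = π n a := fun n a =>
    congrArg (fun z : A →+* An n => z a) (h1 n)
  -- vectors
  have hext : ∀ x y : Fin k → A, (∀ n i, π n (x i) = π n (y i)) → x = y := fun x y h =>
    funext fun i => h2 _ _ fun n => h n i
  have hex : ∀ x : ∀ n, Fin k → An n, (∀ n i, t n (x (n + 1) i) = x n i) →
      ∃ y : Fin k → A, ∀ n i, π n (y i) = x n i := by
    intro x hx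
    choose y hy using fun i => h3 (fun n => x n i) (fun n => hx n i)
    exact ⟨y, fun n i => hy i n⟩
  -- the idempotent
  have hcol : ∀ j : Fin k, ∃ y : Fin k → A, ∀ n i,
      π n (y i) = (D n).s ((D n).f (Pi.single j 1)) i := by
    intro j
    apply hex
    intro n i
    have hsg : (fun l => t n ((Pi.single j (1 : An (n + 1)) : Fin k → An (n + 1)) l)) =
        (Pi.single j (1 : An n) : Fin k → An n) := by
      funext l
      by_cases hl : l = j
      · subst hl; simp
      · simp [Pi.single_eq_of_ne hl]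
    rw [(hD n).hs, (hD n).hf, hsg]
  choose col hcol using hcol
  let e : (Fin k → A) →ₗ[A] (Fin k → A) := Fintype.linearCombination A col
  have he : ∀ x n i, π n (e x i) = (D n).s ((D n).f (fun j => π n (x j))) i := by
    intro x n i
    have h4 : e x = ∑ j, x j • col j := Fintype.linearCombination_apply A col x
    have h5 : (fun j => π n (x j)) = ∑ j, π n (x j) • (Pi.single j (1 : An n) : Fin k → An n) := by
      rw [← pi_eq_sum_univ' (fun i => π n (x i))]
    rw [h4, h5, map_sum, map_sum, Finset.sum_apply, Finset.sum_apply, map_sum]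
    refine Finset.sum_congr rfl fun j _ => ?_
    rw [Pi.smul_apply, smul_eq_mul, map_mul, hcol, map_smul, map_smul, Pi.smul_apply, smul_eq_mul]
  have he' : ∀ x n, (fun i => π n (e x i)) = (D n).s ((D n).f (fun j => π n (x j))) :=
    fun x n => funext fun i => he x n i
  have hee : ∀ x, e (e x) = e x := by
    intro x
    apply hext
    intro n i
    rw [he, he', (D n).fs, ← he']
  let P : Submodule A (Fin k → A) := LinearMap.range e
  have heP : ∀ x : P, e x = x := by
    rintro ⟨_, x, rfl⟩
    exact hee x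
  let r : (Fin k → A) →ₗ[A] P := e.rangeRestrict
  have hr : ∀ x : P, r x = x := fun x => Subtype.ext (heP x)
  let vec : ∀ n, (Fin k → A) →ₛₗ[π n] (Fin k → An n) := fun n =>
    { toFun := fun x i => π n (x i)
      map_add' := fun x y => funext fun i => map_add (π n) _ _
      map_smul' := fun a x => funext fun i => map_mul (π n) _ _ }
  let p : ∀ n, P →ₛₗ[π n] M n := fun n => (D n).f.comp ((vec n).comp P.subtype)
  have hp : ∀ n (x : P), p n x = (D n).f (fun i => π n ((x : Fin k → A) i)) := fun n x => rfl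
  have hps : ∀ n (x : P), (D n).s (p n x) = fun i => π n ((x : Fin k → A) i) := by
    intro n x
    rw [hp, ← he', heP]
  refine ⟨P, inferInstance, inferInstance, p, ?_, ?_, ?_, ?_, ?_⟩
  · exact Module.Finite.of_surjective r (LinearMap.surjective_rangeRestrict e)
  · exact Module.Projective.of_split P.subtype r (LinearMap.ext fun x => hr x)
  · intro n x
    rw [hp, hp, (hD n).hf]
    congr 1
    funext i
    exact h1' n _
  · intro n
    constructor
    · intro m
      choose x hx using fun i => hπ n ((D n).s m i)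
      refine ⟨r x, ?_⟩
      have h4 : (fun i => π n (x i)) = (D n).s m := funext hx
      change (D n).f (fun i => π n (e x i)) = m
      rw [he', h4, (D n).fs, (D n).fs]
    · apply le_antisymm
      · intro x hx
        have h4 : (D n).s (p n x) = 0 := by rw [LinearMap.mem_ker.1 hx, map_zero]
        rw [hps] at h4
        have h5 : x = ∑ i, ((x : Fin k → A) i) • r (Pi.single i 1) := by
          conv_lhs => rw [← hr x]
          have h6 : (x : Fin k → A) = ∑ i, ((x : Fin k → A) i) • (Pi.single i (1 : A) : Fin k → A) := by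
            rw [← pi_eq_sum_univ' (x : Fin k → A)]
          conv_lhs => rw [h6]
          rw [map_sum]
          refine Finset.sum_congr rfl fun i _ => ?_
          rw [map_smul]
        rw [h5]
        refine Submodule.sum_mem _ fun i _ => ?_
        exact Submodule.smul_mem_smul (congrFun h4 i) trivial
      · rw [Submodule.smul_le]
        intro a ha x _
        rw [LinearMap.mem_ker, map_smulₛₗ, RingHom.mem_ker.1 ha, zero_smul]
  · intro x hx
    obtain ⟨y, hy⟩ := hex (fun n => (D n).s (x n)) (fun n i => by rw [(hD n).hs, hx])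
    have hy' : ∀ n, (fun i => π n (y i)) = (D n).s (x n) := fun n => funext fun i => hy n i
    have hey : e y = y := by
      apply hext
      intro n i
      rw [he, hy', (D n).fs, ← hy']
    refine ⟨⟨y, y, hey⟩, fun n => ?_, fun q hq => ?_⟩
    · rw [hp]
      change (D n).f (fun i => π n (y i)) = x n
      rw [hy', (D n).fs]
    · apply Subtype.ext
      apply hext
      intro n i
      have h4 := hps n q
      rw [hq] at h4
      rw [← congrFun h4 i]
      exact (hy n i).symm

end Limit

end K140.LimProj
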