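import Groth.Agent.Hensel.K141.LocUniv

/-!
The local version of `K141.LocUniv`: `A → B` a local homomorphism of local rings, `S` a (strict)
henselization of `A`, `T` a (strict) henselization of `B`; then `T` is a (strict) henselization of
every local ring `D` between which is generated (epimorphically) by `S` and `B`.
-/

set_option autoImplicit false
universe u

namespace K140.LocalEpi

open IsLocalRing

theorem isLocalHom_right {B D T : Type*} [CommRing B] [CommRing D] [CommRing T] [Algebra B T]
    [IsLocalHom (algebraMap B T)] [Algebra D T]
    (j : B →+* D) (hj : (algebraMap D T).comp j = algebraMap B T) :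
    IsLocalHom j := by
  constructor
  intro b hb
  have h1 : IsUnit (algebraMap B T b) := by
    rw [← hj]
    exact hb.map (algebraMap D T)
  exact isUnit_of_map_unit (algebraMap B T) b h1

variable {A B S T : Type u} [CommRing A] [IsLocalRing A] [CommRing B] [IsLocalRing B]
  [Algebra A B] [IsLocalHom (algebraMap A B)]
  [CommRing S] [IsLocalRing S] [Algebra A S] [IsLocalHom (algebraMap A S)]
  [CommRing T] [IsLocalRing T] [Algebra B T] [IsLocalHom (algebraMap B T)]
  (D : Type u) [CommRing D] [IsLocalRing D] [Algebra D T] [IsLocalHom (algebraMap D T)]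

/-- The strict henselization of `B` is a strict henselization of every local ring `D` between. -/
theorem isStrictHenselization_of_epi [Hensel.IsStrictHenselization A S]
    [Hensel.IsStrictHenselization B T] (i : S →+* D) [IsLocalHom i] (j : B →+* D)
    (hj : (algebraMap D T).comp j = algebraMap B T)
    (hij : i.comp (algebraMap A S) = j.comp (algebraMap A B))
    (epi : ∀ (T : Type u) [CommRing T] (f g : D →+* T), f.comp i = g.comp i →
      f.comp j = g.comp j → f = g) : Hensel.IsStrictHenselization D T := by
  have hjl : IsLocalHom j := isLocalHom_right j hj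
  refine ⟨Hensel.IsStrictHenselization.henselian B, ?_, ?_⟩
  · obtain ⟨h1, h2⟩ := (isSepClosure_iff).mp (Hensel.IsStrictHenselization.isSepClosure
      (R := B) (S := T))
    rw [isSepClosure_iff]
    refine ⟨h1, ?_⟩
    let _ : Algebra (ResidueField B) (ResidueField D) :=
      (ResidueField.map j).toAlgebra
    have : IsScalarTower (ResidueField B) (ResidueField D) (ResidueField T) := by
      refine IsScalarTower.of_algebraMap_eq fun x => ?_
      obtain ⟨x, rfl⟩ := residue_surjective x
      change residue T (algebraMap _ T x) = residue T (algebraMap D T (j x))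
      rw [← hj]
      rfl
    exact Algebra.isSeparable_tower_top_of_isSeparable (ResidueField B) _ _
  · intro T' _ _ f hf τ hτ
    have hτ' : ∀ d : D, τ (residue T (algebraMap D T d)) = residue T' (f d) := fun d =>
      congr($hτ (residue D d))
    obtain ⟨g, ⟨hg, hg'⟩, hgu⟩ := Hensel.IsStrictHenselization.universal
      (R := B) (S := T) T' (f.comp j) τ (by
        apply RingHom.ext
        intro x
        obtain ⟨x, rfl⟩ := residue_surjective x
        change τ (residue T (algebraMap _ T x)) = residue T' (f (j x))
        rw [← hτ', ← hj]
        rfl)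
    have hgj : (g.comp (algebraMap D T)).comp j = f.comp j := by
      rw [RingHom.comp_assoc, hj, hg]
    refine ⟨g, ⟨epi T' _ _ ?_ hgj, hg'⟩, ?_⟩
    · have hl : IsLocalHom (f.comp i) := inferInstance
      obtain ⟨g', -, hgu'⟩ := Hensel.IsStrictHenselization.universal
        (R := A) (S := S) T' ((f.comp i).comp (algebraMap A S))
        (ResidueField.map (f.comp i)) (by
          apply RingHom.ext
          intro x
          obtain ⟨x, rfl⟩ := residue_surjective x
          rfl)
      rw [hgu' (f.comp i) ⟨rfl, fun x => rfl⟩]
      refine hgu' _ ⟨?_, fun x => ?_⟩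
      · simp only [RingHom.comp_assoc]
        rw [hij]
        simp only [← RingHom.comp_assoc]
        rw [hgj]
      · change residue T' (g (algebraMap D T (i x))) = residue T' (f (i x))
        rw [hg', hτ']
    · rintro g₂ ⟨hg₂, hg₂'⟩
      apply hgu _ ⟨?_, hg₂'⟩
      rw [← hj, ← RingHom.comp_assoc, hg₂]

/-- the henselization of `B` is a henselization of every local ring `D` between. -/
theorem isHenselization_of_epi [Hensel.IsHenselization A S]
    [Hensel.IsHenselization B T] (i : S →+* D) (j : B →+* D)
    (hj : (algebraMap D T).comp j = algebraMap B T)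
    (hij : i.comp (algebraMap A S) = j.comp (algebraMap A B))
    (epi : ∀ (T : Type u) [CommRing T] (f g : D →+* T), f.comp i = g.comp i →
      f.comp j = g.comp j → f = g) : Hensel.IsHenselization D T where
  henselian := Hensel.IsHenselization.henselian B
  universal T' _ _ f hf := by
    have hjl : IsLocalHom j := isLocalHom_right j hj
    have hl : IsLocalHom ((f.comp j).comp (algebraMap A B)) := inferInstance
    obtain ⟨g, hg, hgu⟩ := Hensel.IsHenselization.universal (R := B) (S := T) T' (f.comp j)
      inferInstance
    dsimp only at hgu
    have hgj : (g.comp (algebraMap D T)).comp j = f.comp j := by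
      rw [RingHom.comp_assoc, hj, hg]
    refine ⟨g, ?_, ?_⟩
    · dsimp only
      refine epi T' _ _ ?_ hgj
      obtain ⟨g', hg', hgu'⟩ := Hensel.IsHenselization.universal (R := A)
        (S := S) T' ((f.comp j).comp (algebraMap A B)) hl
      dsimp only at hgu'
      have e1 : (f.comp i).comp (algebraMap A S) = (f.comp j).comp (algebraMap A B) := by
        rw [RingHom.comp_assoc, hij, ← RingHom.comp_assoc]
      have e2 : ((g.comp (algebraMap D T)).comp i).comp (algebraMap A S)
          = (f.comp j).comp (algebraMap A B) := by
        rw [RingHom.comp_assoc, hij, ← RingHom.comp_assoc, hgj]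
      rw [hgu' _ e1, hgu' _ e2]
    · intro g₂ hg₂
      apply hgu
      rw [← hj, ← RingHom.comp_assoc, hg₂]

/-- A local map between strict henselizations lying over a local map. -/
theorem exists_map_strictHenselization (A B S T : Type u) [CommRing A] [IsLocalRing A] [CommRing B] [IsLocalRing B]
    [Algebra A B] [IsLocalHom (algebraMap A B)]
    [CommRing S] [IsLocalRing S] [Algebra A S] [IsLocalHom (algebraMap A S)]
    [CommRing T] [IsLocalRing T] [Algebra B T] [IsLocalHom (algebraMap B T)]
    [Hensel.IsStrictHenselization A S]
    [Hensel.IsStrictHenselization B T] :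
    ∃ g : S →+* T, IsLocalHom g ∧ g.comp (algebraMap A S) = (algebraMap B T).comp (algebraMap A B) := by
  have hT : HenselianLocalRing T := Hensel.IsStrictHenselization.henselian B
  obtain ⟨h1, h2⟩ := (isSepClosure_iff).mp (Hensel.IsStrictHenselization.isSepClosure
      (R := B) (S := T))
  obtain ⟨h3, h4⟩ := (isSepClosure_iff).mp (Hensel.IsStrictHenselization.isSepClosure
      (R := A) (S := S))
  let f := (algebraMap B T).comp (algebraMap A B)
  have hf : IsLocalHom f := inferInstance
  let _ : Algebra (ResidueField A) (ResidueField T) := (ResidueField.map f).toAlgebra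
  let τ : ResidueField S →ₐ[ResidueField A] ResidueField T := IsSepClosed.lift
  obtain ⟨g, ⟨hg, hg'⟩, -⟩ := Hensel.IsStrictHenselization.universal (R := A) (S := S) T f
    τ.toRingHom (by
      apply RingHom.ext
      intro x
      exact τ.commutes x)
  refine ⟨g, ?_, hg⟩
  apply K141.LocUniv.isLocalHom_of_map_le
  rw [Ideal.map_le_iff_le_comap]
  intro s hs
  rw [Ideal.mem_comap, ← residue_eq_zero_iff, hg', (residue_eq_zero_iff s).mpr hs, map_zero]

end K140.LocalEpi
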