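import Groth.Agent.S1971
import Groth.Agent.S0526
import Groth.Agent.Etalg.PairHens2

/-!
# Henselization of pairs commutes with integral base change
-/

set_option autoImplicit false
universe u

namespace K140.PairBC

open TensorProduct

/-- For `A → B` integral and `Ah` a henselization of `(A, I)`, the ring `Ah ⊗ B` is a henselization of
`(B, IB)`. -/
theorem isPairHenselization_tensor {A B Ah : Type u} [CommRing A] [CommRing B] [CommRing Ah]
    [Algebra A B] (I : Ideal A) [Algebra.IsIntegral A B] [Algebra A Ah]
    (hA : Hens2.IsPairHenselization A I Ah) :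
    @Hens2.IsPairHenselization B _ (I.map (algebraMap A B)) (Ah ⊗[A] B) _
      Algebra.TensorProduct.rightAlgebra := by
  let _ : Algebra B (Ah ⊗[A] B) := Algebra.TensorProduct.rightAlgebra
  have hst : IsScalarTower A B (Ah ⊗[A] B) := inferInstance
  constructor
  · have h1 := hA.1
    have h2 : HenselianRing (Ah ⊗[A] B) ((I.map (algebraMap A Ah)).map
        (algebraMap Ah (Ah ⊗[A] B))) := Groth.Agent.S0526.result Ah _ (Ah ⊗[A] B)
    have h3 : (I.map (algebraMap A Ah)).map (algebraMap Ah (Ah ⊗[A] B)) =
        (I.map (algebraMap A B)).map (algebraMap B (Ah ⊗[A] B)) := by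
      rw [Ideal.map_map, Ideal.map_map, ← IsScalarTower.algebraMap_eq,
        ← IsScalarTower.algebraMap_eq]
    rwa [h3] at h2
  · intro C _ K f hK hle
    let _ : Algebra A C := (f.comp (algebraMap A B)).toAlgebra
    let fB : B →ₐ[A] C := { f with commutes' := fun _ => rfl }
    have hle' : I.map (algebraMap A C) ≤ K := by
      have : algebraMap A C = f.comp (algebraMap A B) := rfl
      rw [this, ← Ideal.map_map]
      exact hle
    obtain ⟨g, hg, hgu⟩ := hA.2 C K (algebraMap A C) hK hle'
    let gA : Ah →ₐ[A] C := { g with commutes' := fun r => congrArg (fun z : A →+* C => z r) hg }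
    refine ⟨(Algebra.TensorProduct.productMap gA fB).toRingHom, ?_, ?_⟩
    · ext b
      change Algebra.TensorProduct.productMap gA fB ((1 : Ah) ⊗ₜ[A] b) = f b
      rw [Algebra.TensorProduct.productMap_apply_tmul, map_one, one_mul]
      rfl
    · intro h hh
      have hB : ∀ b : B, h ((1 : Ah) ⊗ₜ[A] b) = f b := fun b =>
        congrArg (fun z : B →+* C => z b) hh
      have hAh : h.comp (algebraMap Ah (Ah ⊗[A] B)) = g := by
        apply hgu
        ext a
        change h (algebraMap A Ah a ⊗ₜ[A] (1 : B)) = f (algebraMap A B a)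
        rw [← hB, Algebra.algebraMap_eq_smul_one, TensorProduct.smul_tmul,
          ← Algebra.algebraMap_eq_smul_one]
      have hAh' : ∀ x : Ah, h (x ⊗ₜ[A] (1 : B)) = g x := fun x =>
        congrArg (fun z : Ah →+* C => z x) hAh
      refine RingHom.ext fun x => ?_
      change h x = Algebra.TensorProduct.productMap gA fB x
      induction x with
      | zero => rw [map_zero, map_zero]
      | add x y hx hy => rw [map_add, map_add, hx, hy]
      | tmul x b =>
        have : x ⊗ₜ[A] b = (x ⊗ₜ[A] (1 : B)) * ((1 : Ah) ⊗ₜ[A] b) := by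
          rw [Algebra.TensorProduct.tmul_mul_tmul, mul_one, one_mul]
        rw [this, map_mul, hAh', hB, ← this, Algebra.TensorProduct.productMap_apply_tmul]
        rfl

end K140.PairBC
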