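import Groth.Agent.UnramA.RegFibCov
import Groth.Agent.Ega4C.GeomRedFib
import Groth.Agent.S2647
import Groth.Agent.S2648
import Groth.Agent.S2657
import Groth.Agent.CurvesB.EtaleCompl
import Groth.Agent.S0567

/-!
# Geometrically reduced formal fibres along ind-étale maps; Nagata rings and henselization
-/

set_option autoImplicit false

universe u

open TensorProduct

namespace K140.RedFib

open Groth.Agent.Hensel.EtaleNbhd (IsEtaleCovered)
open Groth.Agent.UnramA.RegFibCov

/-- `T ⊗[R] K` is reduced for all fields `K` over `R`. -/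
def RedF (R T : Type u) [CommRing R] [CommRing T] [Algebra R T] : Prop :=
  ∀ (K : Type u) [Field K] [Algebra R K], IsReduced (T ⊗[R] K)

theorem exists_mul_eq_zero {D M : Type u} [CommRing D] [CommRing M] (hD : Disc0 D) (Q : Ideal D)
    [hQ : Q.IsPrime] (f : D →+* M) (x : M) (hx : x ∈ Q.map f) : ∃ s : D, s ∉ Q ∧ f s * x = 0 := by
  induction hx using Submodule.span_induction with
  | mem x hx =>
    obtain ⟨y, hy, rfl⟩ := hx
    obtain ⟨s, hs, hsy⟩ := hD Q y hy
    exact ⟨s, hs, by rw [← map_mul, hsy, map_zero]⟩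
  | zero => exact ⟨1, fun h => hQ.ne_top ((Ideal.eq_top_iff_one _).2 h), by simp⟩
  | add x y _ _ hx hy =>
    obtain ⟨s, hs, hsx⟩ := hx
    obtain ⟨t, ht, hty⟩ := hy
    refine ⟨s * t, fun h => (hQ.mem_or_mem h).elim hs ht, ?_⟩
    rw [map_mul, mul_add]
    have h1 : f s * f t * x = f t * (f s * x) := by ring
    have h2 : f s * f t * y = f s * (f t * y) := by ring
    rw [h1, h2, hsx, hty, mul_zero, mul_zero, add_zero]
  | smul a x _ hx =>
    obtain ⟨s, hs, hsx⟩ := hx
    refine ⟨s, hs, ?_⟩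
    rw [smul_eq_mul]
    have h1 : f s * (a * x) = a * (f s * x) := by ring
    rw [h1, hsx, mul_zero]

section

variable {R S : Type u} [CommRing R] [CommRing S] [Algebra R S]
  (T : Type u) [CommRing T] [Algebra R T] [Algebra S T] [IsScalarTower R S T]

/-- Passing to a quotient of `D` at a prime: the kernel is locally trivial. -/
theorem exists_of_map_eq_zero {D L : Type u} [CommRing D] [Algebra S D] (hD : Disc0 D)
    [CommRing L] [IsDomain L] [Algebra S L] (ψ : D →ₐ[S] L) (hψ : Function.Surjective ψ)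
    (z : T ⊗[S] D) (hz : Algebra.TensorProduct.map (AlgHom.id T T) ψ z = 0) :
    ∃ s : D, ψ s ≠ 0 ∧ ((1 : T) ⊗ₜ[S] s) * z = 0 := by
  have hprime : (RingHom.ker ψ).IsPrime := RingHom.ker_isPrime _
  have h1 := Algebra.TensorProduct.lTensor_ker (R := S) (A := T) ψ hψ
  have h2 : z ∈ (RingHom.ker ψ).map
      (Algebra.TensorProduct.includeRight : D →ₐ[S] T ⊗[S] D).toRingHom := by
    have : z ∈ RingHom.ker (Algebra.TensorProduct.map (AlgHom.id S T) ψ) := by
      rw [RingHom.mem_ker]
      exact hz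
    rw [h1] at this
    exact this
  obtain ⟨s, hs, hsz⟩ := exists_mul_eq_zero hD (RingHom.ker ψ) _ z h2
  exact ⟨s, hs, hsz⟩

theorem redF_of_tower (h : IsEtaleCovered R S) (H : RedF R T) : RedF S T := by
  intro K _ _
  let _ : Algebra R K := ((algebraMap S K).comp (algebraMap R S)).toAlgebra
  have : IsScalarTower R S K := IsScalarTower.of_algebraMap_eq fun _ => rfl
  have hD : Disc0 (S ⊗[R] K) := disc0_tensor h K
  let ψ : (S ⊗[R] K) →ₐ[S] K :=
    Algebra.TensorProduct.lift (Algebra.ofId S K) (AlgHom.id R K) (fun _ _ => Commute.all _ _)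
  have hψ : Function.Surjective ψ := fun k => ⟨(1 : S) ⊗ₜ k, by simp [ψ]⟩
  have hred : IsReduced (T ⊗[S] (S ⊗[R] K)) := by
    have := H K
    exact isReduced_of_injective (Algebra.TensorProduct.cancelBaseChange R S T T K)
      (Algebra.TensorProduct.cancelBaseChange R S T T K).injective
  refine ⟨fun z hz => ?_⟩
  obtain ⟨n, hn⟩ := hz
  let Φ := Algebra.TensorProduct.map (AlgHom.id T T) ψ
  obtain ⟨w, rfl⟩ : ∃ w, Φ w = z := by
    have : Function.Surjective (Algebra.TensorProduct.map (AlgHom.id T T) ψ) :=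
      Algebra.TensorProduct.map_surjective _ _ Function.surjective_id hψ
    exact this z
  rw [← map_pow] at hn
  obtain ⟨s, hs, hsw⟩ := exists_of_map_eq_zero T hD ψ hψ (w ^ n) hn
  have h1 : IsNilpotent (((1 : T) ⊗ₜ[S] s) * w) := by
    refine ⟨n + 1, ?_⟩
    rw [mul_pow, pow_succ, pow_succ]
    have : ((1 : T) ⊗ₜ[S] s) ^ n * ((1 : T) ⊗ₜ[S] s) * (w ^ n * w) =
      ((1 : T) ⊗ₜ[S] s) ^ n * (((1 : T) ⊗ₜ[S] s) * w ^ n) * w := by ring
    rw [this, hsw, mul_zero, zero_mul]
  have h2 := h1.eq_zero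
  have h3 : ((1 : T) ⊗ₜ[S] (ψ s)) * Φ w = 0 := by
    have := congrArg Φ h2
    rw [map_mul, map_zero] at this
    simpa [Φ] using this
  have h4 : ((1 : T) ⊗ₜ[S] (ψ s)⁻¹) * (((1 : T) ⊗ₜ[S] (ψ s)) * Φ w) = Φ w := by
    rw [← mul_assoc, Algebra.TensorProduct.tmul_mul_tmul, inv_mul_cancel₀ hs, mul_one,
      ← Algebra.TensorProduct.one_def, one_mul]
  rw [h3, mul_zero] at h4
  exact h4.symm

theorem redF_of_redF (h : IsEtaleCovered R S) (H : RedF S T) : RedF R T := by
  intro K _ _
  have hD : Disc0 (S ⊗[R] K) := disc0_tensor h K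
  have hred : IsReduced (T ⊗[S] (S ⊗[R] K)) := by
    refine ⟨fun z hz => ?_⟩
    by_contra hne
    -- the annihilator of `z` in `S ⊗ K`
    let J : Ideal (S ⊗[R] K) :=
      { carrier := {s | ((1 : T) ⊗ₜ[S] s) * z = 0}
        add_mem' := fun {a b} ha hb => by
          change ((1 : T) ⊗ₜ[S] (a + b)) * z = 0
          rw [TensorProduct.tmul_add, add_mul]
          rw [show ((1 : T) ⊗ₜ[S] a) * z = 0 from ha, show ((1 : T) ⊗ₜ[S] b) * z = 0 from hb,
            add_zero]
        zero_mem' := by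
          change ((1 : T) ⊗ₜ[S] (0 : S ⊗[R] K)) * z = 0
          rw [TensorProduct.tmul_zero, zero_mul]
        smul_mem' := fun c a ha => by
          change ((1 : T) ⊗ₜ[S] (c * a)) * z = 0
          have h1 : ((1 : T) ⊗ₜ[S] (c * a)) = ((1 : T) ⊗ₜ[S] c) * ((1 : T) ⊗ₜ[S] a) := by
            rw [Algebra.TensorProduct.tmul_mul_tmul, one_mul]
          rw [h1, mul_assoc, show ((1 : T) ⊗ₜ[S] a) * z = 0 from ha, mul_zero] }
    have hJ : J ≠ ⊤ := by
      intro h1
      have h2 : (1 : S ⊗[R] K) ∈ J := h1 ▸ Submodule.mem_top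
      have h3 : ((1 : T) ⊗ₜ[S] (1 : S ⊗[R] K)) * z = 0 := h2
      rw [← Algebra.TensorProduct.one_def, one_mul] at h3
      exact hne h3
    obtain ⟨Q, hQ, hJQ⟩ := Ideal.exists_le_maximal J hJ
    have hQ' : Q.IsPrime := hQ.isPrime
    let L := (S ⊗[R] K) ⧸ Q
    let _ : Field L := Ideal.Quotient.field Q
    let ψ : (S ⊗[R] K) →ₐ[S] L := Ideal.Quotient.mkₐ S Q
    have hψ : Function.Surjective ψ := Ideal.Quotient.mk_surjective
    have hL : IsReduced (T ⊗[S] L) := H L
    have h5 : Algebra.TensorProduct.map (AlgHom.id T T) ψ z = 0 := by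
      have : IsNilpotent (Algebra.TensorProduct.map (AlgHom.id T T) ψ z) := hz.map _
      exact this.eq_zero
    obtain ⟨s, hs, hsz⟩ := exists_of_map_eq_zero T hD ψ hψ z h5
    exact hs (Ideal.Quotient.eq_zero_iff_mem.2 (hJQ hsz))
  exact isReduced_of_injective (Algebra.TensorProduct.cancelBaseChange R S T T K).symm
      (Algebra.TensorProduct.cancelBaseChange R S T T K).symm.injective

end

theorem RedF.congr {R T T' : Type u} [CommRing R] [CommRing T] [CommRing T'] [Algebra R T]
    [Algebra R T'] (e : T ≃ₐ[R] T') (H : RedF R T) : RedF R T' := by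
  intro K _ _
  have := H K
  exact isReduced_of_injective
    (Algebra.TensorProduct.congr e (AlgEquiv.refl : K ≃ₐ[R] K)).symm
    (Algebra.TensorProduct.congr e (AlgEquiv.refl : K ≃ₐ[R] K)).symm.injective

theorem redF_iff (A : Type u) [CommRing A] [IsLocalRing A] :
    EGA4.HasGeomReducedFormalFibres A ↔ RedF A (EGA4.Cpl A) := by
  constructor
  · intro h K _ _
    have := Groth.Agent.Ega4C.GeomRedFib.isReduced_field_tensor (A := A) (A' := EGA4.Cpl A)
      (fun p _ => h p) K
    exact isReduced_of_injective (Algebra.TensorProduct.comm A (EGA4.Cpl A) K)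
      (Algebra.TensorProduct.comm A (EGA4.Cpl A) K).injective
  · intro h p _
    rw [Algebra.isGeometricallyReduced_field_iff]
    let κ := p.ResidueField
    let Ω := AlgebraicClosure κ
    have h1 : IsReduced (EGA4.Cpl A ⊗[A] Ω) := h Ω
    let e : Ω ⊗[κ] (κ ⊗[A] EGA4.Cpl A) ≃ₐ[κ] Ω ⊗[A] EGA4.Cpl A :=
      Algebra.TensorProduct.cancelBaseChange A κ κ Ω (EGA4.Cpl A)
    let e' : Ω ⊗[A] EGA4.Cpl A ≃ₐ[A] EGA4.Cpl A ⊗[A] Ω :=
      Algebra.TensorProduct.comm A Ω (EGA4.Cpl A)
    exact isReduced_of_injective (e'.toRingEquiv.toRingHom.comp e.toRingEquiv.toRingHom)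
      (e'.injective.comp e.injective)

theorem isNagata_iff (A : Type u) [CommRing A] [IsNoetherianRing A] [IsLocalRing A] :
    CAlg.IsNagata A ↔ EGA4.HasGeomReducedFormalFibres A := by
  constructor
  · intro h
    rw [← Groth.Agent.S2648.result]
    intro C _ _ hC hred
    exact Groth.Agent.S2647.result A h.2 C
  · exact Groth.Agent.S2657.result A

/-- The formal fibres of a Noetherian local ring are geometrically reduced iff those of its
henselization are. -/
theorem hasGeomReducedFormalFibres_henselization_iff (R S : Type u) [CommRing R] [IsLocalRing R]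
    [IsNoetherianRing R] [CommRing S] [IsLocalRing S] [Algebra R S] [IsLocalHom (algebraMap R S)]
    [Hensel.IsHenselization R S] :
    EGA4.HasGeomReducedFormalFibres S ↔ EGA4.HasGeomReducedFormalFibres R := by
  have h := Groth.Agent.UnramA.IndEtLift.isIndEt_of_isHenselization R S
  have hc := Groth.Agent.UnramA.IndEtLift.isEtaleCovered h
  have hflat := Groth.Agent.UnramA.IndEtLift.flat h
  have hS := Groth.Agent.UnramA.IndEtLift.isNoetherianRing h
  have hm := Groth.Agent.UnramA.IndEtLift.map_maximalIdeal h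
  have hres : ∀ b : S, ∃ a : R, b - algebraMap R S a ∈ IsLocalRing.maximalIdeal S := by
    intro b
    obtain ⟨x, hx⟩ := (Groth.Agent.Hensel.Exist.residueField_bijective_of_isHenselization R S).2
      (IsLocalRing.residue S b)
    obtain ⟨a, rfl⟩ := IsLocalRing.residue_surjective x
    refine ⟨a, ?_⟩
    rw [IsLocalRing.ResidueField.map_residue] at hx
    rw [← IsLocalRing.residue_eq_zero_iff, map_sub, hx, sub_self]
  obtain ⟨e, he⟩ :=
    Groth.Agent.CurvesB.EtaleCompl.exists_completion_ringEquiv_of_flat (A := R) (B := S) hm hres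
  let e' : AdicCompletion (IsLocalRing.maximalIdeal R) R ≃ₐ[R]
      AdicCompletion (IsLocalRing.maximalIdeal S) S :=
    AlgEquiv.ofRingEquiv (f := e) (fun a => by
      rw [he a]
      rfl)
  have : IsScalarTower R S (AdicCompletion (IsLocalRing.maximalIdeal S) S) :=
    IsScalarTower.of_algebraMap_eq fun a => rfl
  rw [redF_iff, redF_iff]
  constructor
  · intro H
    exact (redF_of_redF (R := R) (EGA4.Cpl S) hc H).congr e'.symm
  · intro H
    exact redF_of_tower (R := R) (EGA4.Cpl S) hc (H.congr e')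

theorem isUniversallyJapanese_iff (A : Type u) [CommRing A] [hN : IsNoetherianRing A]
    [IsLocalRing A] : CAlg.IsUniversallyJapanese A ↔ EGA4.HasGeomReducedFormalFibres A := by
  rw [← isNagata_iff, Groth.Agent.S0567.result]
  exact ⟨fun h => ⟨hN, h⟩, fun h => h.2⟩

end K140.RedFib
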