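import Groth.Agent.S2772
import Groth.Agent.S13598
import Groth.Agent.S5043
import Groth.Agent.Ega4A.StrictlyEquidim

/-!
# Strictly formally catenary local rings and henselization
-/

set_option autoImplicit false
universe u

namespace K140.StrictFC

open EGA4 IsLocalRing Groth.Agent.Ega4A Groth.Agent.Ega4A.EquidimFlat

/-- The completions of a Noetherian local ring and of its henselization agree. -/
theorem exists_cpl_equiv (R S : Type u) [CommRing R] [IsLocalRing R] [IsNoetherianRing R]
    [CommRing S] [IsLocalRing S] [Algebra R S] [IsLocalHom (algebraMap R S)]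
    [Hensel.IsHenselization R S] :
    ∃ e : Cpl R ≃+* Cpl S, ∀ a : R, e (algebraMap R (Cpl R) a) =
      algebraMap S (Cpl S) (algebraMap R S a) := by
  have h := Groth.Agent.UnramA.IndEtLift.isIndEt_of_isHenselization R S
  have hflat := Groth.Agent.UnramA.IndEtLift.flat h
  have hS := Groth.Agent.UnramA.IndEtLift.isNoetherianRing h
  have hm := Groth.Agent.UnramA.IndEtLift.map_maximalIdeal h
  have hres : ∀ b : S, ∃ a : R, b - algebraMap R S a ∈ IsLocalRing.maximalIdeal S := by
    intro b
    obtain ⟨x, hx⟩ := (Groth.Agent.Hensel.Exist.residueField_bijective_of_isHenselization R S).2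
      (IsLocalRing.residue S b)
    obtain ⟨a, rfl⟩ := IsLocalRing.residue_surjective x
    refine ⟨a, ?_⟩
    rw [IsLocalRing.ResidueField.map_residue] at hx
    rw [← IsLocalRing.residue_eq_zero_iff, map_sub, hx, sub_self]
  exact Groth.Agent.CurvesB.EtaleCompl.exists_completion_ringEquiv_of_flat (A := R) (B := S) hm hres

/-- A prime of the henselization is an associated prime of the extension of its contraction. -/
theorem mem_associatedPrimes_quotient (R S : Type u) [CommRing R] [IsLocalRing R]
    [IsNoetherianRing R] [CommRing S] [IsLocalRing S] [Algebra R S] [IsLocalHom (algebraMap R S)]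
    [Hensel.IsHenselization R S] (q : Ideal S) [q.IsPrime] :
    q ∈ associatedPrimes S (S ⧸ (q.comap (algebraMap R S)).map (algebraMap R S)) := by
  have hS : IsNoetherianRing S := (Groth.Agent.S0511.result R S).mp inferInstance
  set p := q.comap (algebraMap R S) with hp
  have hle : p.map (algebraMap R S) ≤ q := Ideal.map_comap_le
  have hpm : p ≤ maximalIdeal R := le_maximalIdeal (Ideal.IsPrime.ne_top inferInstance)
  have hne : p.map (algebraMap R S) ≠ ⊤ := ne_top_of_le_ne_top (Ideal.IsPrime.ne_top ‹_›) hle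
  have : Nontrivial (S ⧸ p.map (algebraMap R S)) := Ideal.Quotient.nontrivial_iff.2 hne
  have h1 : IsLocalRing (S ⧸ p.map (algebraMap R S)) :=
    IsLocalRing.of_surjective' (Ideal.Quotient.mk _) Ideal.Quotient.mk_surjective
  have hmk : IsLocalHom (Ideal.Quotient.mk (p.map (algebraMap R S))) :=
    IsLocalHom.of_surjective _ Ideal.Quotient.mk_surjective
  have h2 : IsLocalRing (R ⧸ p) :=
    IsLocalRing.of_surjective' (Ideal.Quotient.mk _) Ideal.Quotient.mk_surjective
  have hloc : IsLocalHom (algebraMap (R ⧸ p) (S ⧸ p.map (algebraMap R S))) := by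
    constructor
    intro x hx
    obtain ⟨a, rfl⟩ := Ideal.Quotient.mk_surjective x
    have h3 : IsUnit (Ideal.Quotient.mk (p.map (algebraMap R S)) (algebraMap R S a)) := hx
    exact ((isUnit_of_map_unit _ _ (isUnit_of_map_unit _ _ h3)).map (Ideal.Quotient.mk p))
  have hH := Groth.Agent.S13598.result (A := R) (S := S) p hpm
  let Q : Ideal (S ⧸ p.map (algebraMap R S)) := q.map (Ideal.Quotient.mk _)
  have hQ : Q.IsPrime := isPrime_map_mk hle
  have hQq : Q.comap (Ideal.Quotient.mk _) = q := comap_map_mk hle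
  have hbot : Q.comap (algebraMap (R ⧸ p) (S ⧸ p.map (algebraMap R S))) = ⊥ := by
    rw [eq_bot_iff]
    intro x hx
    obtain ⟨a, rfl⟩ := Ideal.Quotient.mk_surjective x
    have h3 : algebraMap R S a ∈ Q.comap (Ideal.Quotient.mk (p.map (algebraMap R S))) := hx
    rw [hQq] at h3
    exact Ideal.Quotient.eq_zero_iff_mem.2 h3
  have h4 : Q ∈ associatedPrimes (S ⧸ p.map (algebraMap R S)) (S ⧸ p.map (algebraMap R S)) := by
    rw [Groth.Agent.S5043.result (R ⧸ p) (S ⧸ p.map (algebraMap R S)) Q, hbot]
    refine (HeightOneHull.mem_associatedPrimes_iff).2 ⟨Ideal.isPrime_bot, 1, fun a => ?_⟩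
    simp
  rw [← StrictlyEquidim.comap_mem_associatedPrimes_iff, hQq] at h4
  exact h4

theorem associatedPrimes_map_subset (A B : Type u) [CommRing A] [CommRing B] [Algebra A B]
    [Module.Flat A B] [IsNoetherianRing A] (I q : Ideal A) (h : q ∈ associatedPrimes A (A ⧸ I)) :
    associatedPrimes B (B ⧸ q.map (algebraMap A B)) ⊆
      associatedPrimes B (B ⧸ I.map (algebraMap A B)) := by
  obtain ⟨-, x, hx⟩ := HeightOneHull.mem_associatedPrimes_iff.1 h
  let f : (A ⧸ q) →ₗ[A] (A ⧸ I) := q.liftQ (LinearMap.toSpanSingleton A _ x) (by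
    intro a ha
    exact (hx a).1 ha)
  have hf : Function.Injective f := by
    rw [injective_iff_map_eq_zero]
    intro y hy
    obtain ⟨a, rfl⟩ := Ideal.Quotient.mk_surjective y
    exact Ideal.Quotient.eq_zero_iff_mem.2 ((hx a).2 hy)
  have hg : Function.Injective (f.baseChange B) :=
    Module.Flat.lTensor_preserves_injective_linearMap (M := B) f hf
  have h1 := associatedPrimes.subset_of_injective hg
  rw [LinearEquiv.AssociatedPrimes.eq
    (Algebra.TensorProduct.quotIdealMapEquivTensorQuot B q).toLinearEquiv,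
    LinearEquiv.AssociatedPrimes.eq
    (Algebra.TensorProduct.quotIdealMapEquivTensorQuot B I).toLinearEquiv]
  exact h1

theorem comap_mem_associatedPrimes_quotient {A B : Type u} [CommRing A] [CommRing B]
    [IsNoetherianRing A] [IsNoetherianRing B] (e : A ≃+* B) (J : Ideal B) {P : Ideal B}
    (hP : P ∈ associatedPrimes B (B ⧸ J)) :
    P.comap (e : A →+* B) ∈ associatedPrimes A (A ⧸ J.comap (e : A →+* B)) := by
  obtain ⟨hprime, x, hx⟩ := HeightOneHull.mem_associatedPrimes_iff.1 hP
  obtain ⟨y, rfl⟩ := Ideal.Quotient.mk_surjective x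
  refine HeightOneHull.mem_associatedPrimes_iff.2 ⟨hprime.comap _,
    Ideal.Quotient.mk _ (e.symm y), fun a => ?_⟩
  rw [Ideal.mem_comap, hx]
  have h1 : e a • Ideal.Quotient.mk J y = Ideal.Quotient.mk J (e a * y) := rfl
  have h2 : a • Ideal.Quotient.mk (J.comap (e : A →+* B)) (e.symm y) =
    Ideal.Quotient.mk (J.comap (e : A →+* B)) (a * e.symm y) := rfl
  change e a • Ideal.Quotient.mk J y = 0 ↔ _
  rw [h1, h2, Ideal.Quotient.eq_zero_iff_mem, Ideal.Quotient.eq_zero_iff_mem, Ideal.mem_comap]
  simp

theorem isFormallyStrictlyCatenary (R S : Type u) [CommRing R] [IsLocalRing R]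
    [IsNoetherianRing R] [CommRing S] [IsLocalRing S] [Algebra R S] [IsLocalHom (algebraMap R S)]
    [Hensel.IsHenselization R S] (h : EGA4.IsFormallyStrictlyCatenary R) :
    EGA4.IsFormallyStrictlyCatenary S := by
  have hS : IsNoetherianRing S := (Groth.Agent.S0511.result R S).mp inferInstance
  have hCR := CplQuot.isNoetherianRing_cpl R
  have hCS := CplQuot.isNoetherianRing_cpl S
  obtain ⟨e, he⟩ := exists_cpl_equiv R S
  intro q hq
  change IsStrictlyEquidim (Cpl (S ⧸ q))
  rw [StrictlyEquidim.isStrictlyEquidim_cpl_quotient_iff]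
  let p := q.comap (algebraMap R S)
  have hR := (StrictlyEquidim.isStrictlyEquidim_cpl_quotient_iff R p).1 (h p)
  have hmap : ((p.map (algebraMap R S)).map (algebraMap S (Cpl S))).comap (e : Cpl R →+* Cpl S) =
      p.map (algebraMap R (Cpl R)) := by
    have h1 : (p.map (algebraMap R S)).map (algebraMap S (Cpl S)) =
        (p.map (algebraMap R (Cpl R))).map (e : Cpl R →+* Cpl S) := by
      rw [Ideal.map_map, Ideal.map_map]
      congr 1
      ext1 a
      exact (he a).symm
    rw [h1]
    exact Ideal.comap_map_of_bijective (e : Cpl R →+* Cpl S) e.bijective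
  have key : ∀ P ∈ associatedPrimes (Cpl S) (Cpl S ⧸ q.map (algebraMap S (Cpl S))),
      ringKrullDim (Cpl S ⧸ P) = ringKrullDim (R ⧸ p) := by
    intro P hP
    have h1 := associatedPrimes_map_subset S (Cpl S) _ q (mem_associatedPrimes_quotient R S q) hP
    have h2 := comap_mem_associatedPrimes_quotient e _ h1
    rw [hmap] at h2
    rw [← hR _ h2]
    refine (ringKrullDim_eq_of_ringEquiv ?_).symm
    exact Ideal.quotientEquiv _ _ e (Ideal.map_comap_of_surjective _ e.surjective P).symm
  have hne : q.map (algebraMap S (Cpl S)) ≠ ⊤ := map_ne_top (Ideal.IsPrime.ne_top ‹_›)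
  have hfin : FiniteRingKrullDim (Cpl S ⧸ q.map (algebraMap S (Cpl S))) :=
    finiteRingKrullDim_quotient hne
  have hdim : ringKrullDim (S ⧸ q) = ringKrullDim (R ⧸ p) := by
    rw [← CplQuot.ringKrullDim_cpl_quotient_map]
    refine dim_eq_of_forall_minimalPrimes _ fun P hP => key P ?_
    have h1 := Module.associatedPrimes.minimalPrimes_annihilator_subset_associatedPrimes (Cpl S)
      (Cpl S ⧸ q.map (algebraMap S (Cpl S)))
    rw [Ideal.annihilator_quotient] at h1
    exact h1 hP
  intro P hP
  rw [key P hP, hdim]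

end K140.StrictFC
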